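import Cfsg.Agent.MinSimple.Geo
import Cfsg.Agent.Lib.GoldschmidtFusion

/-!
# Blocks of a module (NO-3S TwoFar, text #16267, (b1))

`H` acts on the elementary abelian 2-group `M` (additive, the action need not be faithful), `JJ` is a set of subgroups
of `H`; `BJ M J = [M, J]`, `CC M JJ` = the common fixed points of all `J ∈ JJ`.

* `Blk M JJ` : (b1), `JJ` is `H`-invariant;
* `Blk.mem_CC` : `b ∈ BJ J`, `[b, J] ≤ CC` give `b ∈ CC`; `Blk.inter` : `(BJ J + CC) ∩ (BJ J' + CC) = CC`;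
* `Blk.fixed` : the fixed points of `J` in `BJ J`;
* `Blk.stab` : `J ∩ Stab(λ + CC)` fixes `λ` if a Sylow 2-subgroup of `H` fixes `λ`.
-/

set_option autoImplicit false

namespace Cfsg.Agent.Omega.NOThree.TF

open Subgroup Cfsg.Agent.MinSimple.Geo

universe u v

variable {H : Type u} [Group H] {M : Type v} [AddCommGroup M] [DistribMulAction H M]

variable (M) in
/-- `[M, J]` -/
def BJ (J : Subgroup H) : AddSubgroup M := AddSubgroup.closure {m | ∃ g ∈ J, ∃ v : M, m = g • v - v}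

variable (M) in
/-- the common fixed points of the subgroups in `JJ` -/
def CC (JJ : Set (Subgroup H)) : AddSubgroup M where
  carrier := {m | ∀ J ∈ JJ, ∀ g ∈ J, g • m = m}
  add_mem' := by
    intro a b ha hb J hJ g hg
    rw [smul_add, ha J hJ g hg, hb J hJ g hg]
  zero_mem' := fun J _ g _ => smul_zero g
  neg_mem' := by
    intro a ha J hJ g hg
    rw [smul_neg, ha J hJ g hg]

theorem mem_CC {JJ : Set (Subgroup H)} {m : M} : m ∈ CC M JJ ↔ ∀ J ∈ JJ, ∀ g ∈ J, g • m = m := Iff.rfl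

section basic

variable {J : Subgroup H} {g : H} {m v : M}

theorem sub_mem_BJ (hg : g ∈ J) (v : M) : g • v - v ∈ BJ M J := AddSubgroup.subset_closure ⟨g, hg, v, rfl⟩

theorem smul_mem_BJ (hg : g ∈ J) (hm : m ∈ BJ M J) : g • m ∈ BJ M J := by
  have := add_mem (sub_mem_BJ hg m) hm
  rwa [sub_add_cancel] at this

theorem smul_mem_BJ_iff (hg : g ∈ J) : g • m ∈ BJ M J ↔ m ∈ BJ M J := by
  refine ⟨fun h => ?_, smul_mem_BJ hg⟩
  have := smul_mem_BJ (inv_mem hg) h
  rwa [inv_smul_smul] at this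

theorem conj_smul_mem_BJ (g : H) (hm : m ∈ BJ M J) : g • m ∈ BJ M (cj g J) := by
  unfold BJ at hm
  induction hm using AddSubgroup.closure_induction with
  | mem x hx =>
    obtain ⟨j, hj, v, rfl⟩ := hx
    have := sub_mem_BJ (M := M) (conj_mem_cj (g := g) hj) (g • v)
    rw [smul_smul, inv_mul_cancel_right] at this
    rwa [smul_sub, smul_smul]
  | zero => rw [smul_zero]; exact zero_mem _
  | add x y _ _ hx hy => rw [smul_add]; exact add_mem hx hy
  | neg x _ hx => rw [smul_neg]; exact neg_mem hx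

theorem sub_mem_of_sub {D : AddSubgroup M} {a b c : M} (h1 : a - b ∈ D) (h2 : b - c ∈ D) : a - c ∈ D := by
  have := add_mem h1 h2
  rwa [sub_add_sub_cancel] at this

end basic

variable (M) in
/-- (b1) -/
structure Blk (JJ : Set (Subgroup H)) : Prop where
  conj : ∀ J ∈ JJ, ∀ g : H, cj g J ∈ JJ
  ker : ∀ J ∈ JJ, ∀ g : H, (∀ m : M, g • m = m) → g ∈ J
  comm : ∀ J ∈ JJ, ∀ J' ∈ JJ, J ≠ J' → ∀ m ∈ BJ M J, ∀ g ∈ J', g • m = m
  span : (⨆ J ∈ JJ, BJ M J) ⊔ CC M JJ = ⊤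
  irr : ∀ J ∈ JJ, ∀ D : AddSubgroup M, D ≤ BJ M J → (∀ g ∈ J, ∀ d ∈ D, g • d ∈ D) →
    D ≤ CC M JJ ∨ BJ M J ≤ D ⊔ CC M JJ
  nontriv : ∀ J ∈ JJ, ¬ BJ M J ≤ CC M JJ

namespace Blk

variable {JJ : Set (Subgroup H)} (h : Blk M JJ) {J J' : Subgroup H}
include h

theorem smul_CC (g : H) {m : M} (hm : m ∈ CC M JJ) : g • m ∈ CC M JJ := by
  intro J hJ j hj
  have h1 : g⁻¹ * j * g ∈ cj g⁻¹ J := by
    have := conj_mem_cj (g := g⁻¹) hj
    rwa [inv_inv] at this
  have h2 := hm _ (h.conj J hJ g⁻¹) _ h1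
  rw [mul_smul, mul_smul] at h2
  rw [← smul_left_cancel_iff g⁻¹, h2, inv_smul_smul]

theorem smul_CC_iff (g : H) {m : M} : g • m ∈ CC M JJ ↔ m ∈ CC M JJ := by
  refine ⟨fun hm => ?_, h.smul_CC g⟩
  have := h.smul_CC g⁻¹ hm
  rwa [inv_smul_smul] at this

theorem conj_mem_iff (g : H) : cj g J ∈ JJ ↔ J ∈ JJ := by
  refine ⟨fun hJ => ?_, fun hJ => h.conj J hJ g⟩
  have := h.conj _ hJ g⁻¹
  rwa [cj_inv_cj] at this

omit h in
theorem fix_CC (hJ : J ∈ JJ) {g : H} (hg : g ∈ J) {m : M} (hm : m ∈ CC M JJ) : g • m = m := hm J hJ g hg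

/-- induction over `M = Σ BJ J + CC` -/
theorem ind {D : AddSubgroup M} (h1 : ∀ J ∈ JJ, BJ M J ≤ D) (h2 : CC M JJ ≤ D) (m : M) : m ∈ D := by
  have h3 : (⊤ : AddSubgroup M) ≤ D := by
    rw [← h.span]
    exact sup_le (iSup₂_le h1) h2
  exact h3 (AddSubgroup.mem_top m)

/-- the vectors `m` with `[m, J] ≤ D` (`J` acts trivially on `D`) -/
def cm (J : Subgroup H) (D : AddSubgroup M) : AddSubgroup M where
  carrier := {m | ∀ g ∈ J, g • m - m ∈ D}
  add_mem' := by
    intro a b ha hb g hg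
    have := add_mem (ha g hg) (hb g hg)
    rwa [show g • (a + b) - (a + b) = g • a - a + (g • b - b) by rw [smul_add]; abel]
  zero_mem' := fun g _ => by simp [zero_mem]
  neg_mem' := by
    intro a ha g hg
    have := neg_mem (ha g hg)
    rwa [show g • -a - -a = -(g • a - a) by rw [smul_neg]; abel]

/-- no vector of `BJ J - CC` is fixed by `J` modulo `CC` -/
theorem mem_CC (hJ : J ∈ JJ) {b : M} (hb : b ∈ BJ M J) (hfix : ∀ g ∈ J, g • b - b ∈ CC M JJ) : b ∈ CC M JJ := by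
  have h1 := h.irr J hJ (BJ M J ⊓ cm J (CC M JJ)) inf_le_left ?_
  · rcases h1 with h1 | h1
    · exact h1 ⟨hb, hfix⟩
    · exfalso
      refine h.nontriv J hJ ?_
      have h2 : ∀ v : M, v ∈ cm J (CC M JJ) := by
        refine h.ind (fun J' hJ' => ?_) fun c hc g hg => ?_
        · by_cases hJJ : J' = J
          · subst hJJ
            intro b hb g hg
            obtain ⟨d, hd, c, hc, rfl⟩ := AddSubgroup.mem_sup.1 (h1 hb)
            have h3 := hd.2 g hg
            rwa [smul_add, fix_CC hJ hg hc, add_sub_add_right_eq_sub]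
          · intro b hb g hg
            rw [h.comm J' hJ' J hJ hJJ b hb g hg, sub_self]
            exact zero_mem _
        · rw [fix_CC hJ hg hc, sub_self]
          exact zero_mem _
      unfold BJ
      rw [AddSubgroup.closure_le]
      rintro _ ⟨g, hg, v, rfl⟩
      exact h2 v g hg
  · rintro g hg d ⟨hd1, hd2⟩
    refine ⟨smul_mem_BJ hg hd1, fun j hj => ?_⟩
    have e : j • g • d - g • d = ((j * g) • d - d) - (g • d - d) := by rw [mul_smul]; abel
    rw [e]
    exact sub_mem (hd2 _ (mul_mem hj hg)) (hd2 _ hg)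

/-- the fixed points of `J` in `BJ J` lie in `CC` -/
theorem fixed (hJ : J ∈ JJ) {b : M} (hb : b ∈ BJ M J) (hfix : ∀ g ∈ J, g • b = b) : b ∈ CC M JJ :=
  h.mem_CC hJ hb fun g hg => by rw [hfix g hg, sub_self]; exact zero_mem _

/-- `J'` fixes `BJ J + CC` -/
theorem fix_of_ne (hJ : J ∈ JJ) (hJ' : J' ∈ JJ) (hne : J ≠ J') {m : M} (hm : m ∈ BJ M J ⊔ CC M JJ) {g : H}
    (hg : g ∈ J') : g • m = m := by
  obtain ⟨b, hb, c, hc, rfl⟩ := AddSubgroup.mem_sup.1 hm
  rw [smul_add, h.comm J hJ J' hJ' hne b hb g hg, fix_CC hJ' hg hc]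

/-- `J` fixes the vector of `BJ J + CC` : it lies in `CC` -/
theorem mem_CC_of_fix (hJ : J ∈ JJ) {m : M} (hm : m ∈ BJ M J ⊔ CC M JJ) (hf : ∀ g ∈ J, g • m = m) :
    m ∈ CC M JJ := by
  obtain ⟨b, hb, c, hc, rfl⟩ := AddSubgroup.mem_sup.1 hm
  refine add_mem (h.fixed hJ hb fun g hg => ?_) hc
  have := hf g hg
  rw [smul_add, fix_CC hJ hg hc] at this
  exact add_right_cancel this

/-- the sum of the `BJ J` is direct modulo `CC` -/
theorem inter (hJ : J ∈ JJ) (hJ' : J' ∈ JJ) (hne : J ≠ J') {m : M} (hm : m ∈ BJ M J ⊔ CC M JJ)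
    (hm' : m ∈ BJ M J' ⊔ CC M JJ) : m ∈ CC M JJ :=
  h.mem_CC_of_fix hJ hm fun _ hg => h.fix_of_ne hJ' hJ hne.symm hm' hg

omit h in
theorem smul_mem_sup (hJ : J ∈ JJ) {g : H} (hg : g ∈ J) {m : M} (hm : m ∈ BJ M J ⊔ CC M JJ) :
    g • m ∈ BJ M J ⊔ CC M JJ := by
  obtain ⟨b, hb, c, hc, rfl⟩ := AddSubgroup.mem_sup.1 hm
  rw [smul_add, fix_CC hJ hg hc]
  exact AddSubgroup.mem_sup.2 ⟨_, smul_mem_BJ hg hb, c, hc, rfl⟩

/-- `g • (BJ J + CC) = BJ J^g + CC` -/
theorem conj_smul_mem_sup (g : H) {m : M} (hm : m ∈ BJ M J ⊔ CC M JJ) : g • m ∈ BJ M (cj g J) ⊔ CC M JJ := by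
  obtain ⟨b, hb, c, hc, rfl⟩ := AddSubgroup.mem_sup.1 hm
  rw [smul_add]
  exact AddSubgroup.mem_sup.2 ⟨_, conj_smul_mem_BJ g hb, _, h.smul_CC g hc, rfl⟩

/-- `g` with `m`, `g • m ∈ BJ J + CC`, `m ∉ CC`, normalises `J` -/
theorem cj_eq (hJ : J ∈ JJ) {g : H} {m : M} (hm : m ∈ BJ M J ⊔ CC M JJ) (hgm : g • m ∈ BJ M J ⊔ CC M JJ)
    (hC : m ∉ CC M JJ) : cj g J = J := by
  by_contra hne
  exact hC ((h.smul_CC_iff g).1 (h.inter (h.conj J hJ g) hJ hne (h.conj_smul_mem_sup g hm) hgm))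

/-- elements of different blocks commute on `M` -/
theorem smul_comm_of_ne (hJ : J ∈ JJ) (hJ' : J' ∈ JJ) (hne : J ≠ J') {g g' : H} (hg : g ∈ J) (hg' : g' ∈ J')
    (m : M) : g • g' • m = g' • g • m := by
  have key : m ∈ ({ carrier := {m | g • g' • m = g' • g • m}
                    add_mem' := by
                      intro a b ha hb
                      simp only [Set.mem_ofPred_eq, smul_add] at ha hb ⊢
                      rw [ha, hb]
                    zero_mem' := by simp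
                    neg_mem' := by
                      intro a ha
                      simp only [Set.mem_ofPred_eq, smul_neg] at ha ⊢
                      rw [ha] } : AddSubgroup M) := by
    refine h.ind (fun J₁ hJ₁ b hb => ?_) (fun c hc => ?_) m
    · change g • g' • b = g' • g • b
      by_cases h1 : J₁ = J
      · subst h1
        rw [h.comm _ hJ₁ _ hJ' hne b hb g' hg', h.comm _ hJ₁ _ hJ' hne _ (smul_mem_BJ hg hb) g' hg']
      · by_cases h2 : J₁ = J'
        · subst h2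
          rw [h.comm _ hJ₁ _ hJ h1 b hb g hg, h.comm _ hJ₁ _ hJ h1 _ (smul_mem_BJ hg' hb) g hg]
        · rw [h.comm _ hJ₁ _ hJ' h2 b hb g' hg', h.comm _ hJ₁ _ hJ h1 b hb g hg,
            h.comm _ hJ₁ _ hJ' h2 b hb g' hg']
    · change g • g' • c = g' • g • c
      rw [fix_CC hJ' hg' hc, fix_CC hJ hg hc, fix_CC hJ' hg' hc]
  exact key

/-- different blocks normalise each other -/
theorem conj_mem (hJ : J ∈ JJ) (hJ' : J' ∈ JJ) {g g' : H} (hg : g ∈ J) (hg' : g' ∈ J') :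
    g' * g * g'⁻¹ ∈ J := by
  by_cases hne : J = J'
  · subst hne
    exact mul_mem (mul_mem hg' hg) (inv_mem hg')
  · have h1 : g' * g * g'⁻¹ * g⁻¹ ∈ J := by
      refine h.ker J hJ _ fun m => ?_
      rw [mul_smul, mul_smul, mul_smul, h.smul_comm_of_ne hJ hJ' hne hg (inv_mem hg'), smul_inv_smul,
        smul_inv_smul]
    have := mul_mem h1 hg
    rwa [inv_mul_cancel_right] at this

/-- the group generated by the blocks is normal in `H` -/
theorem sSup_normal : (sSup JJ).Normal := by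
  refine ⟨fun n hn g => ?_⟩
  have h1 : sSup JJ ≤ cj g⁻¹ (sSup JJ) := by
    refine sSup_le fun J hJ => ?_
    have h2 : cj g J ≤ sSup JJ := le_sSup (h.conj J hJ g)
    rwa [cj_le_iff] at h2
  have h2 := h1 hn
  rwa [mem_cj, inv_inv] at h2

theorem normal_subgroupOf (hJ : J ∈ JJ) : (J.subgroupOf (sSup JJ)).Normal := by
  rw [normal_subgroupOf_iff_le_normalizer (le_sSup hJ)]
  refine sSup_le fun J' hJ' g' hg' => ?_
  rw [mem_normalizer_iff]
  refine fun g => ⟨fun hg => h.conj_mem hJ hJ' hg hg', fun hg => ?_⟩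
  have := h.conj_mem hJ hJ' hg (inv_mem hg')
  have e : g'⁻¹ * (g' * g * g'⁻¹) * g'⁻¹⁻¹ = g := by group
  rwa [e] at this

/-- `T ∩ J` is Sylow in `J` -/
theorem not_dvd_relIndex [Finite H] {T : Subgroup H} (hT : ¬ 2 ∣ T.index) (hJ : J ∈ JJ) : ¬ 2 ∣ T.relIndex J := by
  have := h.sSup_normal
  have := h.normal_subgroupOf hJ
  have h1 := Cfsg.Agent.Lib.GoldschmidtFusion.relIndex_dvd_index_of_normal_right T (sSup JJ)
  have h2 := Cfsg.Agent.Lib.GoldschmidtFusion.relIndex_dvd_index_of_normal_right (T.subgroupOf (sSup JJ))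
    (J.subgroupOf (sSup JJ))
  rw [relIndex_subgroupOf (le_sSup hJ)] at h2
  exact fun h3 => hT ((h3.trans h2).trans h1)

/-- `J ∩ Stab(λ + CC)` fixes `λ`, if a Sylow 2-subgroup of `H` fixes `λ`. -/
theorem stab [Finite H] (two : ∀ m : M, m + m = 0) {T : Subgroup H} (hT : ¬ 2 ∣ T.index) {lam : M}
    (hlam : ∀ t ∈ T, t • lam = lam) (hJ : J ∈ JJ) {g : H} (hg : g ∈ J) (hgl : g • lam - lam ∈ CC M JJ) :
    g • lam = lam := by
  have : Fact (Nat.Prime 2) := ⟨Nat.prime_two⟩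
  let S : Subgroup H :=
    { carrier := {g | g ∈ J ∧ g • lam - lam ∈ CC M JJ}
      one_mem' := ⟨one_mem _, by simp [zero_mem]⟩
      mul_mem' := by
        rintro a b ⟨ha, ha'⟩ ⟨hb, hb'⟩
        refine ⟨mul_mem ha hb, ?_⟩
        have e : (a * b) • lam - lam = a • (b • lam - lam) + (a • lam - lam) := by
          rw [mul_smul, smul_sub]; abel
        rw [e]
        exact add_mem (h.smul_CC a hb') ha'
      inv_mem' := by
        rintro a ⟨ha, ha'⟩
        refine ⟨inv_mem ha, ?_⟩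
        have e : a⁻¹ • lam - lam = -(a⁻¹ • (a • lam - lam)) := by
          rw [smul_sub, inv_smul_smul]; abel
        rw [e]
        exact neg_mem (h.smul_CC _ ha') }
  let φ : S →* Multiplicative M := MonoidHom.mk' (fun g => Multiplicative.ofAdd ((g : H) • lam - lam)) (by
    rintro ⟨a, ha, ha'⟩ ⟨b, hb, hb'⟩
    change Multiplicative.ofAdd ((a * b) • lam - lam) =
      Multiplicative.ofAdd (a • lam - lam) * Multiplicative.ofAdd (b • lam - lam)
    rw [← ofAdd_add]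
    congr 1
    have e : (a * b) • lam - lam = a • (b • lam - lam) + (a • lam - lam) := by
      rw [mul_smul, smul_sub]; abel
    rw [e, fix_CC hJ ha hb', add_comm])
  have h1 : (T ⊓ J).subgroupOf S ≤ φ.ker := by
    rintro ⟨a, ha⟩ ha'
    rw [mem_subgroupOf] at ha'
    rw [MonoidHom.mem_ker]
    change Multiplicative.ofAdd (a • lam - lam) = 1
    rw [hlam a ha'.1, sub_self, ofAdd_zero]
  have h2 : ¬ 2 ∣ ((T ⊓ J).subgroupOf S).index := by
    have hle : T ⊓ J ≤ S := fun t ht => ⟨ht.2, by rw [hlam t ht.1, sub_self]; exact zero_mem _⟩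
    have h3 := relIndex_mul_relIndex (T ⊓ J) S J hle fun s hs => hs.1
    rw [inf_relIndex_right] at h3
    intro h4
    exact h.not_dvd_relIndex hT hJ (h3 ▸ (Dvd.dvd.mul_right h4 _))
  have h3 : ¬ 2 ∣ φ.ker.index := fun h4 => h2 (h4.trans (index_dvd_of_le h1))
  have h4 : IsPGroup 2 φ.range := by
    rintro ⟨_, s, rfl⟩
    refine ⟨1, Subtype.ext ?_⟩
    change (φ s) ^ (2 ^ 1) = 1
    rw [pow_one, pow_two]
    exact two ((s : H) • lam - lam)
  have : Finite φ.range := Finite.of_surjective _ φ.rangeRestrict_surjective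
  obtain ⟨k, hk⟩ := (IsPGroup.iff_card (p := 2)).1 h4
  rw [index_ker, hk] at h3
  have hk0 : k = 0 := by
    by_contra hk0
    exact h3 (dvd_pow_self 2 hk0)
  rw [hk0, pow_zero, Subgroup.card_eq_one] at hk
  have h5 : φ ⟨g, hg, hgl⟩ ∈ φ.range := ⟨_, rfl⟩
  rw [hk, mem_bot] at h5
  have h6 : g • lam - lam = 0 := congrArg Multiplicative.toAdd h5
  exact sub_eq_zero.1 h6

end Blk

end Cfsg.Agent.Omega.NOThree.TF
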