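import Cfsg.Agent.Omega.NO3S.Pt.LemD
import Cfsg.Agent.Omega.NOThree.TF.Blk

/-!
# The module `M_p = W_p/p` of `C_G(p)` (NO-3S TwoFar, text #16267)

`Md V p π` : `π : W_p → M` is a surjective homomorphism with kernel `⟨p⟩`, equivariant under `C_G(p)`
(`M` additive, acted on by `centralizer {p}`, not faithfully: the kernel is `kq V p`).

* `Md.eq_iff`, `Md.two`, `Md.mem_kq_iff`;
* `Md.fix_lift` : `c ∈ C(p)` fixing `π x` (`x ∼ p`): some element of `K_p c` fixes `x`;
* `Md.exists_md` : `M_p` exists.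
-/

set_option autoImplicit false
set_option linter.unusedSectionVars false

namespace Cfsg.Agent.Omega.NOThree.TF

open Subgroup Cfsg Cfsg.Agent.ZN Cfsg.Agent.MinSimple.Geo Cfsg.Agent.Omega.CaseL Cfsg.Agent.Omega.NO3S.TwoOne
open Cfsg.Agent.Omega.NO3S.Pt
open Cfsg.Agent.Omega.NO3S.Dual (nn mem_nn DW)
open Cfsg.Agent.ZN.Block (conj_mem_of_normalizer conj_mem_of_normalizer' le_normalizer_of_forall
  mem_normalizer_of)

universe u v

variable {G : Type u} [Group G] {M : Type v} [AddCommGroup M]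

/-- the module `M_p = W_p/p` of `C_G(p)` -/
structure Md (V : Subgroup G) (p : G) [DistribMulAction (centralizer ({p} : Set G)) M] (π : G → M) : Prop where
  map_mul : ∀ a ∈ ws V p, ∀ b ∈ ws V p, π (a * b) = π a + π b
  surj : ∀ m : M, ∃ a ∈ ws V p, π a = m
  ker : ∀ a ∈ ws V p, π a = 0 ↔ a = 1 ∨ a = p
  smul : ∀ g : centralizer ({p} : Set G), ∀ a ∈ ws V p, π ((g : G) * a * (g : G)⁻¹) = g • π a

/-- `C(p)` normalises `W_p` -/
theorem conj_mem_ws_of_mem {V : Subgroup G} {p g a : G} (hg : g ∈ centralizer ({p} : Set G)) (ha : a ∈ ws V p) :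
    g * a * g⁻¹ ∈ ws V p :=
  conj_mem_of_normalizer (centralizer_le_normalizer_ws V p) hg ha

namespace Md

variable {T V : Subgroup G} {z p : G} [DistribMulAction (centralizer ({p} : Set G)) M] {π : G → M}

theorem map_one (md : Md V p π) : π 1 = 0 := (md.ker 1 (one_mem _)).2 (Or.inl rfl)

theorem map_p (h : Fr T V z) (hp : Col V p p) (md : Md V p π) : π p = 0 :=
  (md.ker p (h.mem_ws_self hp)).2 (Or.inr rfl)

theorem two (h : Fr T V z) (hp : Col V p p) (md : Md V p π) (m : M) : m + m = 0 := by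
  obtain ⟨a, ha, rfl⟩ := md.surj m
  rw [← md.map_mul a ha a ha, h.ws_sq hp a ha, md.map_one]

theorem neg_eq (h : Fr T V z) (hp : Col V p p) (md : Md V p π) (m : M) : -m = m :=
  neg_eq_of_add_eq_zero_left (md.two h hp m)

theorem sub_eq (h : Fr T V z) (hp : Col V p p) (md : Md V p π) (m m' : M) : m - m' = m + m' := by
  rw [sub_eq_add_neg, md.neg_eq h hp]

theorem eq_iff (h : Fr T V z) (hp : Col V p p) (md : Md V p π) {a b : G} (ha : a ∈ ws V p) (hb : b ∈ ws V p) :
    π a = π b ↔ a = b ∨ a = p * b := by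
  have h1 : π (a * b) = π a + π b := md.map_mul a ha b hb
  have h2 : π a = π b ↔ π (a * b) = 0 := by
    rw [h1, ← md.sub_eq h hp, sub_eq_zero]
  rw [h2, md.ker _ (mul_mem ha hb)]
  have hbb := h.ws_sq hp b hb
  refine or_congr ⟨fun e => ?_, fun e => ?_⟩ ⟨fun e => ?_, fun e => ?_⟩
  · calc a = a * b * b := by rw [mul_assoc, hbb, mul_one]
      _ = b := by rw [e, one_mul]
  · rw [e, hbb]
  · calc a = a * b * b := by rw [mul_assoc, hbb, mul_one]
      _ = p * b := by rw [e]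
  · rw [e, mul_assoc, hbb, mul_one]

/-- the kernel of the action is `K_p` -/
theorem mem_kq_iff (h : Fr T V z) (hp : Col V p p) (md : Md V p π) (g : centralizer ({p} : Set G)) :
    (g : G) ∈ kq V p ↔ ∀ m : M, g • m = m := by
  have hpp := h.pt_sq hp
  constructor
  · intro hg m
    obtain ⟨a, ha, rfl⟩ := md.surj m
    rw [← md.smul g a ha, md.eq_iff h hp (conj_mem_ws_of_mem g.2 ha) ha]
    exact h.kq_cases' hp hg ha
  · intro hg
    have key : ∀ g : centralizer ({p} : Set G), (∀ m : M, g • m = m) → ∀ w ∈ ws V p,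
        (g : G) * w * (g : G)⁻¹ * w⁻¹ ∈ zpowers p := by
      intro g hg w hw
      have h1 := hg (π w)
      rw [← md.smul g w hw, md.eq_iff h hp (conj_mem_ws_of_mem g.2 hw) hw] at h1
      rw [mem_zpowers_iff_of_mul_self hpp]
      rcases h1 with e | e
      · left; rw [e]; group
      · right; rw [e]; group
    refine ⟨g.2, key g hg, fun w hw => ?_⟩
    have h1 := key g⁻¹ (fun m => by
      conv_lhs => rw [← hg m]
      exact inv_smul_smul g m) w hw
    simpa using h1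

theorem kq_smul (h : Fr T V z) (hp : Col V p p) (md : Md V p π) {k : G} (hk : k ∈ kq V p) (m : M) :
    (⟨k, kq_le_centralizer V p hk⟩ : centralizer ({p} : Set G)) • m = m :=
  (md.mem_kq_iff h hp ⟨k, kq_le_centralizer V p hk⟩).1 hk m

/-- an element of `C(p)` fixing the image of a point `x ∼ p` fixes `x` after a correction in `K_p` -/
theorem fix_lift (h : Fr T V z) (md : Md V p π) {x : G} (hx : Col V p x) (hne : x ≠ p)
    {c : centralizer ({p} : Set G)} (hc : c • π x = π x) :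
    ∃ k : centralizer ({p} : Set G), (k : G) ∈ kq V p ∧ (k * c : G) * x * (k * c : G)⁻¹ = x := by
  have hxp : x ∈ ws V p := h.mem_ws_of_col hx
  rw [← md.smul c x hxp, md.eq_iff h hx.left (conj_mem_ws_of_mem c.2 hxp) hxp] at hc
  rcases hc with e | e
  · exact ⟨1, one_mem _, by simpa using e⟩
  · obtain ⟨g, hp, hx', hp1, hx1⟩ := id hx
    obtain ⟨k, hk, -, hkm⟩ := h.mover_cj hp hp1
    have hpx : p * x ≠ 1 := by
      intro e'
      apply hne
      have := h.pt_sq hx.left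
      calc x = p * p * x := by rw [this, one_mul]
        _ = p := by rw [mul_assoc, e', mul_one]
    have h2 := hkm (p * x) (mul_mem hp hx') hpx (fun e' => hx1 (by simpa using e'))
    refine ⟨⟨k, kq_le_centralizer V p hk⟩, hk, ?_⟩
    calc (k * c : G) * x * (k * c : G)⁻¹ = k * (c * x * (c : G)⁻¹) * k⁻¹ := by group
      _ = p * (p * x) := by rw [e, h2]
      _ = x := by rw [← mul_assoc, h.pt_sq hx.left, one_mul]

/-- two points `∼ p` with the same image are `x`, `p x` -/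
theorem pt_eq (h : Fr T V z) (md : Md V p π) {x y : G} (hx : Col V p x) (hy : Col V p y) (e : π x = π y) :
    x = y ∨ x = p * y :=
  (md.eq_iff h hx.left (h.mem_ws_of_col hx) (h.mem_ws_of_col hy)).1 e

theorem pt_ne_zero (h : Fr T V z) (md : Md V p π) {x : G} (hx : Col V p x) (hne : x ≠ p) : π x ≠ 0 := by
  intro e
  rcases (md.ker x (h.mem_ws_of_col hx)).1 e with e | e
  · exact hx.right.ne_one e
  · exact hne e

end Md

/-- the Sylow 2-subgroup of a flag `(p, l)`, `x` on `l` -/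
theorem exists_T [Finite G] {T V : Subgroup G} {z p x : G} (h : Fr T V z) (hx : Col V p x) (hne : x ≠ p) :
    ∃ T' : Subgroup G, T' ≤ centralizer ({p} : Set G) ∧ IsPGroup 2 T' ∧
      ¬ 2 ∣ T'.relIndex (centralizer ({p} : Set G)) ∧ (∀ t ∈ T', t * x * t⁻¹ = x ∨ t * x * t⁻¹ = p * x) ∧
      ws V p ≤ T' ∧ ∀ w ∈ ws V p, (∀ t ∈ T', t * w = w * t) → w = 1 ∨ w = p := by
  obtain ⟨g, hp, hx', hp1, hx1⟩ := id hx
  obtain ⟨k, hk, -, hf⟩ := h.flag hp hp1
  have hle : ws V p ≤ cj k T := by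
    have := hf.ln.ws_le_T
    rwa [ws_cj] at this
  refine ⟨cj k T, hf.ln.T_le, hf.ln.two, hf.ln.T_syl, fun t ht => ?_, hle, fun w hw hc => ?_⟩
  · have h1 : t * x * t⁻¹ ∈ cj g V := conj_mem_of_normalizer hf.ln.T_norm ht hx'
    have htp : t * p = p * t := mem_centralizer_singleton_iff.1 (hf.ln.T_le ht)
    rcases hf.ln.four hp hx' hp1 hx1 (Ne.symm hne) h1 with e | e | e | e
    · exact absurd (conj_eq_one_iff.1 e) hx1
    · exfalso
      apply hne
      calc x = t⁻¹ * (t * x * t⁻¹) * t := by group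
        _ = t⁻¹ * (p * t) := by rw [e]; group
        _ = p := by rw [← htp]; group
    · exact Or.inl e
    · exact Or.inr e
  · exact hf.ln.soc w (hle hw) (h.ws_sq hx.left w hw) hc

/-- `K_p` induces all sign patterns on two points independent modulo a subgroup containing `N_p` -/
theorem exists_sign [Finite G] {T V : Subgroup G} {z p : G} (h : Fr T V z) (hp : Col V p p) {x y : G}
    (hx : x ∈ ws V p) (hy : y ∈ ws V p) (h1 : x ∉ zpowers y ⊔ nn (ws V p) (kq V p)) :
    ∃ k ∈ kq V p, k * y * k⁻¹ = y ∧ k * x * k⁻¹ = p * x := by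
  obtain ⟨k, hk, hku, hkx⟩ := (h.dw hp).exists_mover (U := zpowers y) (by rwa [zpowers_le]) hx h1
  exact ⟨k, hk, NO3S.Dual.conj_eq_of_comm (hku y (mem_zpowers y)), hkx⟩

theorem not_mem_zpowers_sup {V : Subgroup G} {T : Subgroup G} {z p : G}
    [DistribMulAction (centralizer ({p} : Set G)) M] {π : G → M} (h : Fr T V z) (hp : Col V p p)
    (md : Md V p π) {C : AddSubgroup M} (hN : ∀ w ∈ nn (ws V p) (kq V p), π w ∈ C) {x y : G}
    (hy : y ∈ ws V p) (h1 : π x ∉ C) (h2 : π x + π y ∉ C) :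
    x ∉ zpowers y ⊔ nn (ws V p) (kq V p) := by
  intro hx
  obtain ⟨a, ha, b, hb, rfl⟩ := NO3S.Dual.mem_sup_of_comm (h.ws_comm hp) (A := zpowers y) (by rwa [zpowers_le])
    (inf_le_left : nn (ws V p) (kq V p) ≤ ws V p) hx
  have hbw : b ∈ ws V p := (mem_nn.1 hb).1
  rcases (mem_zpowers_iff_of_mul_self (h.ws_sq hp y hy)).1 ha with rfl | rfl
  · rw [one_mul] at h1
    exact h1 (hN b hb)
  · rw [md.map_mul _ hy _ hbw] at h2
    apply h2
    have e : π a + π b + π a = π b := by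
      rw [add_comm, ← add_assoc, md.two h hp, zero_add]
    rw [e]
    exact hN b hb

/-- **the kill**: `x`, `x'` points `∼ p`, `s = x x' ν`, `ν ∈ N_p`, `W_x ∩ W_x' ≤ W_s`; some `k ∈ C(p)` fixes the
images of `x`, `x'` and moves `ν` to `p ν`. -/
theorem inf_le_of_kill [Finite G] {T V : Subgroup G} {z p : G} [DistribMulAction (centralizer ({p} : Set G)) M]
    {π : G → M} (h : Fr T V z) (md : Md V p π) {C : AddSubgroup M}
    (hN : ∀ w ∈ nn (ws V p) (kq V p), π w ∈ C) {x x' nu k : G} (hx : Col V p x) (hx' : Col V p x')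
    (hnu : nu ∈ nn (ws V p) (kq V p)) (h1 : π x ∉ C) (h2 : π x' ∉ C) (h3 : π x + π x' ∉ C)
    (hk : k ∈ centralizer ({p} : Set G)) (hkx : π (k * x * k⁻¹) = π x) (hkx' : π (k * x' * k⁻¹) = π x')
    (hknu : k * nu * k⁻¹ = p * nu) (hs : Col V p (x * x' * nu)) (hsp : x * x' * nu ≠ p)
    (hD : ws V x ⊓ ws V x' ≤ ws V (x * x' * nu)) : ws V x ⊓ ws V x' ≤ ws V p := by
  have hp := hx.left
  have hxw := h.mem_ws_of_col hx
  have hxw' := h.mem_ws_of_col hx'
  have hpp := h.pt_sq hp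
  -- correct `k`
  obtain ⟨k', hk', e1, e2⟩ : ∃ k' ∈ kq V p, k' * (k * x * k⁻¹) * k'⁻¹ = x ∧ k' * (k * x' * k⁻¹) * k'⁻¹ = x' := by
    have hmove : ∃ k' ∈ kq V p, k' * x' * k'⁻¹ = x' ∧ k' * x * k'⁻¹ = p * x :=
      exists_sign h hp hxw hxw' (not_mem_zpowers_sup h hp md hN hxw' h1 h3)
    have hmove' : ∃ k' ∈ kq V p, k' * x * k'⁻¹ = x ∧ k' * x' * k'⁻¹ = p * x' :=
      exists_sign h hp hxw' hxw (not_mem_zpowers_sup h hp md hN hxw h2 (by rwa [add_comm]))
    have hkp : ∀ k' ∈ kq V p, ∀ y : G, k' * (p * y) * k'⁻¹ = p * (k' * y * k'⁻¹) := by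
      intro k' hk' y
      have := mem_centralizer_singleton_iff.1 (kq_le_centralizer V p hk')
      calc k' * (p * y) * k'⁻¹ = (k' * p) * y * k'⁻¹ := by group
        _ = p * (k' * y * k'⁻¹) := by rw [this]; group
    have hppy : ∀ y, p * (p * y) = y := fun y => by rw [← mul_assoc, hpp, one_mul]
    rcases (md.eq_iff h hp (conj_mem_ws_of_mem hk hxw) hxw).1 hkx with e | e <;>
      rcases (md.eq_iff h hp (conj_mem_ws_of_mem hk hxw') hxw').1 hkx' with e' | e'
    · exact ⟨1, one_mem _, by simpa using e, by simpa using e'⟩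
    · obtain ⟨k', hk', f1, f2⟩ := hmove'
      exact ⟨k', hk', by rw [e, f1], by rw [e', hkp k' hk', f2, hppy]⟩
    · obtain ⟨k', hk', f1, f2⟩ := hmove
      exact ⟨k', hk', by rw [e, hkp k' hk', f2, hppy], by rw [e', f1]⟩
    · obtain ⟨k', hk', f1, f2⟩ := hmove
      obtain ⟨k'', hk'', g1, g2⟩ := hmove'
      refine ⟨k'' * k', mul_mem hk'' hk', ?_, ?_⟩
      · rw [e]
        calc k'' * k' * (p * x) * (k'' * k')⁻¹ = k'' * (k' * (p * x) * k'⁻¹) * k''⁻¹ := by group
          _ = x := by rw [hkp k' hk', f2, hppy, g1]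
      · rw [e']
        calc k'' * k' * (p * x') * (k'' * k')⁻¹ = k'' * (k' * (p * x') * k'⁻¹) * k''⁻¹ := by group
          _ = x' := by rw [hkp k' hk', f1, hkp k'' hk'', g2, hppy]
  have hkp' : k' ∈ centralizer ({p} : Set G) := kq_le_centralizer V p hk'
  set g := k' * k with hg
  have e1' : g * x * g⁻¹ = x := by
    calc k' * k * x * (k' * k)⁻¹ = k' * (k * x * k⁻¹) * k'⁻¹ := by group
      _ = x := e1
  have e2' : g * x' * g⁻¹ = x' := by
    calc k' * k * x' * (k' * k)⁻¹ = k' * (k * x' * k⁻¹) * k'⁻¹ := by group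
      _ = x' := e2
  have e3' : g * nu * g⁻¹ = p * nu := by
    have f1 : k' * p = p * k' := mem_centralizer_singleton_iff.1 hkp'
    have f2 : k' * nu = nu * k' := (mem_nn.1 hnu).2 k' hk'
    calc k' * k * nu * (k' * k)⁻¹ = k' * (k * nu * k⁻¹) * k'⁻¹ := by group
      _ = (k' * p) * nu * k'⁻¹ := by rw [hknu]; group
      _ = p * (k' * nu) * k'⁻¹ := by rw [f1]; group
      _ = p * nu := by rw [f2]; group
  have hxp : x * p = p * x := h.ws_comm hp x hxw p (h.mem_ws_self hp)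
  have hxp' : x' * p = p * x' := h.ws_comm hp x' hxw' p (h.mem_ws_self hp)
  have e4 : g * (x * x' * nu) * g⁻¹ = p * (x * x' * nu) := by
    calc g * (x * x' * nu) * g⁻¹ = (g * x * g⁻¹) * (g * x' * g⁻¹) * (g * nu * g⁻¹) := by group
      _ = x * (x' * p) * nu := by rw [e1', e2', e3']; group
      _ = (x * p) * x' * nu := by rw [hxp']; group
      _ = p * (x * x' * nu) := by rw [hxp]; group
  refine le_trans (fun u hu => ?_) (h.inf_mul_le hs hsp)
  refine ⟨hD hu, ?_⟩
  have h5 : g⁻¹ * u * g ∈ ws V x ⊓ ws V x' := by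
    have f1 := conj_mem_ws g⁻¹ hu.1
    have f2 := conj_mem_ws g⁻¹ hu.2
    have f3 : g⁻¹ * x * g⁻¹⁻¹ = x := by
      rw [inv_inv]; nth_rewrite 1 [← e1']; group
    have f4 : g⁻¹ * x' * g⁻¹⁻¹ = x' := by
      rw [inv_inv]; nth_rewrite 1 [← e2']; group
    rw [f3] at f1
    rw [f4] at f2
    rw [inv_inv] at f1 f2
    exact ⟨f1, f2⟩
  have h6 := conj_mem_ws g (hD h5)
  rw [e4] at h6
  have e5 : g * (g⁻¹ * u * g) * g⁻¹ = u := by group
  rwa [e5] at h6

end Cfsg.Agent.Omega.NOThree.TF
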