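import Cfsg.Agent.Omega.NOThree.TF.SecThree

/-!
# Transport from `p` to `q = g p g⁻¹` (NO-3S TwoFar, text #16267)

* `ce e : C(p) ≃* C(q)`, `e : g p g⁻¹ = q`; `cm e J` the image of `J ≤ C(p)`;
* `Md.tr : M_p ≃+ M_q` with `tr (π a) = π' (g a g⁻¹)` (`tr_π`), `tr (c • m) = ce e c • tr m` (`tr_smul`);
* `Md.mem_BJ_tr`, `Md.mem_CC_tr`;
* `exists_flag2` : some `g` maps `(p, p₁)` to `(q, q₁)`.
-/

set_option autoImplicit false
set_option linter.unusedSectionVars false

namespace Cfsg.Agent.Omega.NOThree.TF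

open Subgroup Cfsg Cfsg.Agent.ZN Cfsg.Agent.MinSimple.Geo Cfsg.Agent.Omega.CaseL Cfsg.Agent.Omega.NO3S.TwoOne
open Cfsg.Agent.Omega.NO3S.Pt
open Cfsg.Agent.Omega.NO3S.Dual (nn mem_nn DW)
open Cfsg.Agent.ZN.Block (conj_mem_of_normalizer conj_mem_of_normalizer' le_normalizer_of_forall
  mem_normalizer_of)

universe u v w

variable {G : Type u} [Group G]

section ce

variable {g p q : G}

theorem conj_mem_cent_singleton (e : g * p * g⁻¹ = q) {c : G} (hc : c ∈ centralizer ({p} : Set G)) :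
    g * c * g⁻¹ ∈ centralizer ({q} : Set G) := by
  rw [mem_centralizer_singleton_iff] at hc ⊢
  rw [← e]
  calc g * c * g⁻¹ * (g * p * g⁻¹) = g * (c * p) * g⁻¹ := by group
    _ = g * p * g⁻¹ * (g * c * g⁻¹) := by rw [hc]; group

theorem inv_rel (e : g * p * g⁻¹ = q) : g⁻¹ * q * g⁻¹⁻¹ = p := by rw [← e]; group

/-- conjugation by `g` as an isomorphism `C(p) ≃* C(q)`, `g p g⁻¹ = q` -/
def ce (e : g * p * g⁻¹ = q) : centralizer ({p} : Set G) ≃* centralizer ({q} : Set G) where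
  toFun c := ⟨g * c * g⁻¹, conj_mem_cent_singleton e c.2⟩
  invFun c := ⟨g⁻¹ * c * g, by
    have := conj_mem_cent_singleton (inv_rel e) c.2
    rwa [inv_inv] at this⟩
  left_inv c := Subtype.ext (by
    change g⁻¹ * (g * (c : G) * g⁻¹) * g = c
    group)
  right_inv c := Subtype.ext (by
    change g * (g⁻¹ * (c : G) * g) * g⁻¹ = c
    group)
  map_mul' a b := Subtype.ext (by
    change g * ((a : G) * b) * g⁻¹ = g * a * g⁻¹ * (g * b * g⁻¹)
    group)

theorem ce_val (e : g * p * g⁻¹ = q) (c : centralizer ({p} : Set G)) : (ce e c : G) = g * c * g⁻¹ := rfl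

/-- the image of a subgroup of `C(p)` -/
def cm (e : g * p * g⁻¹ = q) (J : Subgroup (centralizer ({p} : Set G))) :
    Subgroup (centralizer ({q} : Set G)) := J.map (ce e).toMonoidHom

theorem mem_cm (e : g * p * g⁻¹ = q) {J : Subgroup (centralizer ({p} : Set G))}
    {c : centralizer ({p} : Set G)} : ce e c ∈ cm e J ↔ c ∈ J := by
  unfold cm
  rw [mem_map]
  constructor
  · rintro ⟨x, hx, h⟩
    have : x = c := (ce e).injective h
    exact this ▸ hx
  · exact fun h => ⟨c, h, rfl⟩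

theorem exists_of_mem_cm (e : g * p * g⁻¹ = q) {J : Subgroup (centralizer ({p} : Set G))}
    {d : centralizer ({q} : Set G)} (hd : d ∈ cm e J) : ∃ c ∈ J, ce e c = d := hd

/-- every subgroup of `C(q)` is an image -/
theorem exists_cm (e : g * p * g⁻¹ = q) (J' : Subgroup (centralizer ({q} : Set G))) :
    ∃ J : Subgroup (centralizer ({p} : Set G)), cm e J = J' ∧ J = cm (inv_rel e) J' := by
  refine ⟨cm (inv_rel e) J', ?_, rfl⟩
  ext d
  constructor
  · intro hd
    obtain ⟨c, hc, rfl⟩ := exists_of_mem_cm e hd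
    obtain ⟨d, hd, rfl⟩ := exists_of_mem_cm _ hc
    have : ce e (ce (inv_rel e) d) = d := Subtype.ext (by
      change g * (g⁻¹ * (d : G) * g⁻¹⁻¹) * g⁻¹ = d
      group)
    rwa [this]
  · intro hd
    have : ce e (ce (inv_rel e) d) = d := Subtype.ext (by
      change g * (g⁻¹ * (d : G) * g⁻¹⁻¹) * g⁻¹ = d
      group)
    rw [← this, mem_cm, mem_cm]
    exact hd

end ce

namespace Md

variable {T V : Subgroup G} {z p q g : G} {M : Type v} [AddCommGroup M] {M' : Type w} [AddCommGroup M']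
  [DistribMulAction (centralizer ({p} : Set G)) M] [DistribMulAction (centralizer ({q} : Set G)) M']
  {π : G → M} {π' : G → M'}

theorem col_of_conj (e : g * p * g⁻¹ = q) (hp : Col V p p) : Col V q q := by
  have := hp.conj g
  rwa [e] at this

theorem conj_mem_ws' (e : g * p * g⁻¹ = q) {a : G} (ha : a ∈ ws V p) : g * a * g⁻¹ ∈ ws V q := by
  have := conj_mem_ws g ha
  rwa [e] at this

theorem eq_of_eq (h : Fr T V z) (hp : Col V p p) (md : Md V p π) (md' : Md V q π') (e : g * p * g⁻¹ = q)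
    {a b : G} (ha : a ∈ ws V p) (hb : b ∈ ws V p) : π a = π b ↔ π' (g * a * g⁻¹) = π' (g * b * g⁻¹) := by
  rw [md.eq_iff h hp ha hb, md'.eq_iff h (col_of_conj e hp) (conj_mem_ws' e ha) (conj_mem_ws' e hb)]
  refine or_congr ⟨fun h1 => by rw [h1], fun h1 => ?_⟩ ⟨fun h1 => by rw [h1, ← e]; group, fun h1 => ?_⟩
  · calc a = g⁻¹ * (g * a * g⁻¹) * g := by group
      _ = b := by rw [h1]; group
  · calc a = g⁻¹ * (g * a * g⁻¹) * g := by group
      _ = p * b := by rw [h1, ← e]; group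

/-- the map underlying `tr` -/
noncomputable def trFun (md : Md V p π) (π' : G → M') (g : G) (m : M) : M' :=
  π' (g * Classical.choose (md.surj m) * g⁻¹)

theorem trFun_π (h : Fr T V z) (hp : Col V p p) (md : Md V p π) (md' : Md V q π') (e : g * p * g⁻¹ = q)
    {a : G} (ha : a ∈ ws V p) : trFun md π' g (π a) = π' (g * a * g⁻¹) := by
  unfold trFun
  obtain ⟨h1, h2⟩ := Classical.choose_spec (md.surj (π a))
  exact (eq_of_eq h hp md md' e h1 ha).1 h2

/-- **the transport** `M_p ≃+ M_q` -/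
noncomputable def tr (h : Fr T V z) (hp : Col V p p) (md : Md V p π) (md' : Md V q π')
    (e : g * p * g⁻¹ = q) : M ≃+ M' :=
  AddEquiv.ofBijective
    ({ toFun := trFun md π' g
       map_zero' := by
         have h1 := trFun_π h hp md md' e (one_mem (ws V p))
         rw [md.map_one] at h1
         rw [h1, mul_one, mul_inv_cancel, md'.map_one]
       map_add' := by
         intro m m'
         obtain ⟨a, ha, rfl⟩ := md.surj m
         obtain ⟨b, hb, rfl⟩ := md.surj m'
         rw [← md.map_mul a ha b hb, trFun_π h hp md md' e (mul_mem ha hb), trFun_π h hp md md' e ha,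
           trFun_π h hp md md' e hb, ← md'.map_mul _ (conj_mem_ws' e ha) _ (conj_mem_ws' e hb)]
         congr 1
         group } : M →+ M')
    (by
      constructor
      · intro m m' hm
        obtain ⟨a, ha, rfl⟩ := md.surj m
        obtain ⟨b, hb, rfl⟩ := md.surj m'
        change trFun md π' g (π a) = trFun md π' g (π b) at hm
        rw [trFun_π h hp md md' e ha, trFun_π h hp md md' e hb] at hm
        exact (eq_of_eq h hp md md' e ha hb).2 hm
      · intro m'
        obtain ⟨b, hb, rfl⟩ := md'.surj m'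
        have hb' : g⁻¹ * b * g ∈ ws V p := by
          have := conj_mem_ws' (inv_rel e) hb
          rwa [inv_inv] at this
        refine ⟨π (g⁻¹ * b * g), ?_⟩
        change trFun md π' g (π (g⁻¹ * b * g)) = π' b
        rw [trFun_π h hp md md' e hb']
        congr 1
        group)

variable (h : Fr T V z) (hp : Col V p p) (md : Md V p π) (md' : Md V q π') (e : g * p * g⁻¹ = q)

theorem tr_π {a : G} (ha : a ∈ ws V p) : tr h hp md md' e (π a) = π' (g * a * g⁻¹) :=
  trFun_π h hp md md' e ha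

theorem tr_smul (c : centralizer ({p} : Set G)) (m : M) :
    tr h hp md md' e (c • m) = ce e c • tr h hp md md' e m := by
  obtain ⟨a, ha, rfl⟩ := md.surj m
  rw [← md.smul c a ha, tr_π h hp md md' e (conj_mem_ws_of_mem c.2 ha), tr_π h hp md md' e ha,
    ← md'.smul _ _ (conj_mem_ws' e ha), ce_val]
  congr 1
  group

theorem tr_mem_BJ {J : Subgroup (centralizer ({p} : Set G))} {m : M} (hm : m ∈ BJ M J) :
    tr h hp md md' e m ∈ BJ M' (cm e J) := by
  have h1 : BJ M J ≤ (BJ M' (cm e J)).comap (tr h hp md md' e).toAddMonoidHom := by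
    unfold BJ
    rw [AddSubgroup.closure_le]
    rintro _ ⟨c, hc, v, rfl⟩
    change tr h hp md md' e (c • v - v) ∈ BJ M' (cm e J)
    rw [map_sub, tr_smul]
    exact sub_mem_BJ ((mem_cm e).2 hc) _
  exact h1 hm

theorem mem_BJ_tr {J : Subgroup (centralizer ({p} : Set G))} {m : M} :
    tr h hp md md' e m ∈ BJ M' (cm e J) ↔ m ∈ BJ M J := by
  refine ⟨fun hm => ?_, tr_mem_BJ h hp md md' e⟩
  have h1 : BJ M' (cm e J) ≤ (BJ M J).comap (tr h hp md md' e).symm.toAddMonoidHom := by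
    conv_lhs => unfold BJ
    rw [AddSubgroup.closure_le]
    rintro _ ⟨c, hc, v, rfl⟩
    obtain ⟨d, hd, rfl⟩ := exists_of_mem_cm e hc
    obtain ⟨v, rfl⟩ := (tr h hp md md' e).surjective v
    change (tr h hp md md' e).symm (ce e d • tr h hp md md' e v - tr h hp md md' e v) ∈ BJ M J
    rw [← tr_smul, ← map_sub, AddEquiv.symm_apply_apply]
    exact sub_mem_BJ hd _
  have h2 := h1 hm
  change (tr h hp md md' e).symm (tr h hp md md' e m) ∈ BJ M J at h2
  rwa [AddEquiv.symm_apply_apply] at h2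

theorem mem_CC_tr {JJ : Set (Subgroup (centralizer ({p} : Set G)))}
    {JJ' : Set (Subgroup (centralizer ({q} : Set G)))} (h1 : ∀ J ∈ JJ, cm e J ∈ JJ')
    (h2 : ∀ J' ∈ JJ', ∃ J ∈ JJ, cm e J = J') {m : M} :
    tr h hp md md' e m ∈ CC M' JJ' ↔ m ∈ CC M JJ := by
  rw [mem_CC, mem_CC]
  constructor
  · intro hm J hJ c hc
    have h3 := hm _ (h1 J hJ) (ce e c) ((mem_cm e).2 hc)
    rw [← tr_smul] at h3
    exact (tr h hp md md' e).injective h3
  · intro hm J' hJ' c hc
    obtain ⟨J, hJ, rfl⟩ := h2 J' hJ'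
    obtain ⟨d, hd, rfl⟩ := exists_of_mem_cm e hc
    rw [← tr_smul, hm J hJ d hd]

end Md

/-- some element maps the flag `(p, p₁)` to `(q, q₁)` -/
theorem exists_flag2 {T V : Subgroup G} {z p q p₁ q₁ : G} (h : Fr T V z) (hp : Col V p p₁) (hne : p₁ ≠ p)
    (hq : Col V q q₁) (hne' : q₁ ≠ q) : ∃ g : G, g * p * g⁻¹ = q ∧ g * p₁ * g⁻¹ = q₁ := by
  obtain ⟨a, h1, h2, h3, h4⟩ := hp
  obtain ⟨b, h5, h6, h7, h8⟩ := hq
  obtain ⟨k, hk, hkz, -⟩ := h.flag h1 h3
  obtain ⟨k', hk', hkz', hf⟩ := h.flag h5 h7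
  set c := k' * k⁻¹ with hc
  have e1 : c * p * c⁻¹ = q := by rw [hc, ← hkz, ← hkz']; group
  have e2 : c * p₁ * c⁻¹ ∈ cj b V := by
    have h9 : p₁ ∈ cj k V := hk ▸ h2
    have h10 := conj_mem_cj (g := c) h9
    rw [cj_cj] at h10
    have : c * k = k' := by rw [hc]; group
    rw [this, hk'] at h10
    exact h10
  have e3 : c * p₁ * c⁻¹ ≠ 1 := fun e => h4 (conj_eq_one_iff.1 e)
  have e4 : c * p₁ * c⁻¹ ≠ q := by
    rw [← e1]
    intro e
    apply hne
    calc p₁ = c⁻¹ * (c * p₁ * c⁻¹) * c := by group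
      _ = p := by rw [e]; group
  rcases hf.ln.four h5 h6 h7 h8 (Ne.symm hne') e2 with e | e | e | e
  · exact absurd e e3
  · exact absurd e e4
  · exact ⟨c, e1, e⟩
  · obtain ⟨m, hm, -, hmv⟩ := h.mover_cj h5 h7
    have hqq : q * q = 1 := hf.ln.zz
    have h11 : m * (q * q₁) * m⁻¹ = q * (q * q₁) := by
      refine hmv _ (mul_mem h5 h6) ?_ ?_
      · rw [← e]; exact e3
      · rw [← e]; exact e4
    have h12 : m * q * m⁻¹ = q :=
      NO3S.Dual.conj_eq_of_comm (mem_centralizer_singleton_iff.1 (kq_le_centralizer V q hm))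
    refine ⟨m * c, ?_, ?_⟩
    · calc m * c * p * (m * c)⁻¹ = m * (c * p * c⁻¹) * m⁻¹ := by group
        _ = q := by rw [e1, h12]
    · calc m * c * p₁ * (m * c)⁻¹ = m * (c * p₁ * c⁻¹) * m⁻¹ := by group
        _ = q₁ := by rw [e, h11, ← mul_assoc, hqq, one_mul]

end Cfsg.Agent.Omega.NOThree.TF
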