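import Cfsg.Agent.Omega.NOThree.TF.Md

/-!
# The module `M_p` exists (NO-3S TwoFar, text #16267)

`MM V p` (a type, for every element `p` of `G`), `instance : AddCommGroup (MM V p)`,
`instance : DistribMulAction (centralizer {p}) (MM V p)`, `pim V p : G → MM V p`; `md_MM` : for every point `p`,
`Md V p (pim V p)`; `finite_MM`.
-/

set_option autoImplicit false
set_option linter.unusedSectionVars false

namespace Cfsg.Agent.Omega.NOThree.TF

open Subgroup Cfsg Cfsg.Agent.ZN Cfsg.Agent.MinSimple.Geo Cfsg.Agent.Omega.CaseL Cfsg.Agent.Omega.NO3S.TwoOne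
open Cfsg.Agent.Omega.NO3S.Pt

universe u v

variable {G : Type u} [Group G]

/-- the subgroup `⟨p⟩` of the abelianization of `W_p` -/
def SS (V : Subgroup G) (p : G) : Subgroup (Abelianization (ws V p)) :=
  closure {a | ∃ h : p ∈ ws V p, a = Abelianization.of ⟨p, h⟩}

/-- `M_p = W_p/p` -/
def MM (V : Subgroup G) (p : G) : Type u := Additive (Abelianization (ws V p) ⧸ SS V p)

instance (V : Subgroup G) (p : G) : AddCommGroup (MM V p) :=
  inferInstanceAs (AddCommGroup (Additive (Abelianization (ws V p) ⧸ SS V p)))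

/-- the class of an element of `W_p` -/
def pm (V : Subgroup G) (p : G) (a : ws V p) : MM V p :=
  Additive.ofMul (QuotientGroup.mk (Abelianization.of a) : Abelianization (ws V p) ⧸ SS V p)

theorem pm_mul (V : Subgroup G) (p : G) (a b : ws V p) : pm V p (a * b) = pm V p a + pm V p b := by
  unfold pm
  rw [map_mul]
  rfl

theorem pm_surj (V : Subgroup G) (p : G) (m : MM V p) : ∃ a, pm V p a = m := by
  obtain ⟨x, hx⟩ := QuotientGroup.mk_surjective (Additive.toMul m)
  obtain ⟨a, ha⟩ := QuotientGroup.mk_surjective x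
  refine ⟨a, ?_⟩
  have h1 : Abelianization.of a = x := ha
  unfold pm
  rw [h1, hx]
  rfl

/-- conjugation by an element of `C(p)` on `W_p` -/
def cW (V : Subgroup G) (p : G) (g : centralizer ({p} : Set G)) : ws V p →* ws V p where
  toFun a := ⟨(g : G) * a * (g : G)⁻¹, conj_mem_ws_of_mem g.2 a.2⟩
  map_one' := Subtype.ext (by simp)
  map_mul' a b := Subtype.ext (by
    change (g : G) * (a * b) * (g : G)⁻¹ = (g * a * (g : G)⁻¹) * (g * b * (g : G)⁻¹)
    group)

theorem SS_le (V : Subgroup G) (p : G) (g : centralizer ({p} : Set G)) :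
    SS V p ≤ (SS V p).comap (Abelianization.map (cW V p g)) := by
  conv_lhs => unfold SS
  rw [closure_le]
  rintro _ ⟨h, rfl⟩
  change Abelianization.map (cW V p g) (Abelianization.of ⟨p, h⟩) ∈ SS V p
  rw [Abelianization.map_of]
  refine subset_closure ⟨h, ?_⟩
  congr 1
  refine Subtype.ext ?_
  change (g : G) * p * (g : G)⁻¹ = p
  exact NO3S.Dual.conj_eq_of_comm (mem_centralizer_singleton_iff.1 g.2)

/-- the action of `g ∈ C(p)` on `M_p` -/
def aM (V : Subgroup G) (p : G) (g : centralizer ({p} : Set G)) : MM V p →+ MM V p :=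
  MonoidHom.toAdditive (QuotientGroup.map (SS V p) (SS V p) (Abelianization.map (cW V p g)) (SS_le V p g))

theorem aM_pm (V : Subgroup G) (p : G) (g : centralizer ({p} : Set G)) (a : ws V p) :
    aM V p g (pm V p a) = pm V p (cW V p g a) := rfl

instance (V : Subgroup G) (p : G) : DistribMulAction (centralizer ({p} : Set G)) (MM V p) where
  smul g m := aM V p g m
  one_smul m := by
    obtain ⟨a, rfl⟩ := pm_surj V p m
    change aM V p 1 (pm V p a) = _
    rw [aM_pm]
    congr 1
    refine Subtype.ext ?_
    change (1 : G) * a * (1 : G)⁻¹ = a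
    group
  mul_smul g h m := by
    obtain ⟨a, rfl⟩ := pm_surj V p m
    change aM V p (g * h) (pm V p a) = aM V p g (aM V p h (pm V p a))
    rw [aM_pm, aM_pm, aM_pm]
    congr 1
    refine Subtype.ext ?_
    change (g : G) * h * a * ((g : G) * h)⁻¹ = g * (h * a * (h : G)⁻¹) * (g : G)⁻¹
    group
  smul_zero g := map_zero (aM V p g)
  smul_add g a b := map_add (aM V p g) a b

theorem smul_pm (V : Subgroup G) (p : G) (g : centralizer ({p} : Set G)) (a : ws V p) :
    g • pm V p a = pm V p (cW V p g a) := rfl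

open Classical in
/-- `π : W_p → M_p` (`0` outside `W_p`) -/
noncomputable def pim (V : Subgroup G) (p a : G) : MM V p := if h : a ∈ ws V p then pm V p ⟨a, h⟩ else 0

theorem pim_of_mem {V : Subgroup G} {p a : G} (h : a ∈ ws V p) : pim V p a = pm V p ⟨a, h⟩ := dif_pos h

/-- **`M_p` exists** -/
theorem md_MM {T V : Subgroup G} {z p : G} (h : Fr T V z) (hp : Col V p p) : Md V p (pim V p) where
  map_mul a ha b hb := by
    rw [pim_of_mem ha, pim_of_mem hb, pim_of_mem (mul_mem ha hb), ← pm_mul]
    rfl
  surj m := by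
    obtain ⟨a, rfl⟩ := pm_surj V p m
    exact ⟨a, a.2, pim_of_mem a.2⟩
  ker a ha := by
    have hpw := h.mem_ws_self hp
    rw [pim_of_mem ha]
    have h1 : pm V p ⟨a, ha⟩ = 0 ↔ Abelianization.of (⟨a, ha⟩ : ws V p) ∈ SS V p := by
      rw [← QuotientGroup.eq_one_iff]
      rfl
    have hS : SS V p = zpowers (Abelianization.of ⟨p, hpw⟩) := by
      unfold SS
      rw [zpowers_eq_closure]
      congr 1
      ext x
      constructor
      · rintro ⟨_, rfl⟩; rfl
      · rintro rfl; exact ⟨hpw, rfl⟩
    have hcomm : _root_.commutator (ws V p) = ⊥ := by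
      rw [commutator_def, Subgroup.commutator_eq_bot_iff_le_centralizer]
      rintro x -
      rw [mem_centralizer_iff]
      rintro y -
      exact Subtype.ext (h.ws_comm hp y y.2 x x.2)
    have hinj : Function.Injective (Abelianization.of : ws V p →* Abelianization (ws V p)) := by
      rw [← MonoidHom.ker_eq_bot_iff, Abelianization.ker_of, hcomm]
    have hpp : (⟨p, hpw⟩ : ws V p) * ⟨p, hpw⟩ = 1 := Subtype.ext (h.pt_sq hp)
    rw [h1, hS, mem_zpowers_iff_of_mul_self (by rw [← map_mul, hpp, map_one])]
    constructor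
    · rintro (e | e)
      · left
        rw [← map_one Abelianization.of] at e
        exact congrArg Subtype.val (hinj e)
      · right
        exact congrArg Subtype.val (hinj e)
    · rintro (rfl | rfl)
      · left
        exact map_one Abelianization.of
      · right; rfl
  smul g a ha := by
    rw [pim_of_mem ha, pim_of_mem (conj_mem_ws_of_mem g.2 ha), smul_pm]
    rfl

instance finite_MM [Finite G] (V : Subgroup G) (p : G) : Finite (MM V p) :=
  Finite.of_surjective (pm V p) (pm_surj V p)

end Cfsg.Agent.Omega.NOThree.TF
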