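import Cfsg.Agent.Omega.NOThree.TF.Md
import Cfsg.Agent.Omega.NO3S.TwoFar.Inst

/-!
# `U_λ = I_l/p` in `M_p` (NO-3S TwoFar, text #16267, section 0)

`p`, `p₁` on the line `cj g V`, `λ = π p₁`, `U` = the image of `I_l = ii (cj g V)` (any `U` with
`hU : ∀ m, m ∈ U ↔ ∃ a ∈ ii (cj g V), π a = m`).

* `Md.mem_U`, `Md.lam_mem_U`, `Md.index_U` : `|M : U| = |W_z : I_V|`;
* `Md.stab_U` : the stabiliser of `λ` normalises `U`;
* `Md.mv_U` : (F2') for `u ∈ U`, `u ≠ 0`, `u ≠ λ` some `k ∈ Stab(λ)` has `k u = u + λ`;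
* `Md.fix_U` : `[W_q, W_{p₁}] = 1` : `W_q` fixes `U`.
-/

set_option autoImplicit false
set_option linter.unusedSectionVars false

namespace Cfsg.Agent.Omega.NOThree.TF

open Subgroup Cfsg Cfsg.Agent.ZN Cfsg.Agent.MinSimple.Geo Cfsg.Agent.Omega.CaseL Cfsg.Agent.Omega.NO3S.TwoOne
open Cfsg.Agent.Omega.NO3S.Pt
open Cfsg.Agent.ZN.Block (conj_mem_of_normalizer conj_mem_of_normalizer' le_normalizer_of_forall
  mem_normalizer_of)

universe u v

variable {G : Type u} [Group G] {M : Type v} [AddCommGroup M]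

namespace Md

variable {T V : Subgroup G} {z p p₁ g : G} [DistribMulAction (centralizer ({p} : Set G)) M] {π : G → M}
  {U : AddSubgroup M}

/-- the elements of the line -/
theorem four_cj (h : Fr T V z) (hp : p ∈ cj g V) (hp1 : p ≠ 1) (hq : p₁ ∈ cj g V) (hq1 : p₁ ≠ 1) (hne : p₁ ≠ p)
    {a : G} (ha : a ∈ cj g V) : a = 1 ∨ a = p ∨ a = p₁ ∨ a = p * p₁ := by
  obtain ⟨k, -, -, hf⟩ := h.flag hp hp1
  exact hf.ln.four hp hq hp1 hq1 (Ne.symm hne) ha

/-- `D ≤ M` is the image of `E ∩ W_p` : `|M : D| = |W_p : W_p ∩ E|` -/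
theorem index_eq_relIndex (md : Md V p π) {D : AddSubgroup M} {E : Subgroup G}
    (hDE : ∀ a ∈ ws V p, π a ∈ D ↔ a ∈ E) : D.index = E.relIndex (ws V p) := by
  let φ : ws V p →* Multiplicative (M ⧸ D) :=
    { toFun := fun a => Multiplicative.ofAdd (QuotientAddGroup.mk (π a))
      map_one' := by
        change Multiplicative.ofAdd ((QuotientAddGroup.mk (π (1 : G)) : M ⧸ D)) = 1
        rw [md.map_one]
        rfl
      map_mul' := by
        rintro ⟨a, ha⟩ ⟨b, hb⟩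
        change Multiplicative.ofAdd ((QuotientAddGroup.mk (π (a * b)) : M ⧸ D)) = _
        rw [md.map_mul a ha b hb]
        rfl }
  have hφ : Function.Surjective φ := by
    intro x
    obtain ⟨m, hm⟩ := QuotientAddGroup.mk_surjective (Multiplicative.toAdd x)
    obtain ⟨a, ha, rfl⟩ := md.surj m
    exact ⟨⟨a, ha⟩, by
      change Multiplicative.ofAdd ((QuotientAddGroup.mk (π a) : M ⧸ D)) = x
      rw [hm]
      rfl⟩
  have hk : φ.ker = E.subgroupOf (ws V p) := by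
    ext ⟨a, ha⟩
    rw [MonoidHom.mem_ker, mem_subgroupOf]
    change Multiplicative.ofAdd ((QuotientAddGroup.mk (π a) : M ⧸ D)) = 1 ↔ a ∈ E
    rw [← hDE a ha]
    exact QuotientAddGroup.eq_zero_iff (π a)
  have h1 : φ.ker.index = Nat.card (M ⧸ D) := by
    rw [index_ker, MonoidHom.range_eq_top.2 hφ]
    exact Nat.card_congr (Equiv.Set.univ _) |>.trans rfl
  rw [hk] at h1
  exact h1.symm

/-- the subgroup `U` -/
theorem exists_U (h : Fr T V z) (md : Md V p π) (hp : p ∈ cj g V) (hp1 : p ≠ 1) :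
    ∃ U : AddSubgroup M, ∀ m, m ∈ U ↔ ∃ a ∈ ii (cj g V), π a = m := by
  have hle := h.ii_cj_le hp hp1
  have hpc : Col V p p := Col.of_mem hp hp hp1 hp1
  refine ⟨{ carrier := {m | ∃ a ∈ ii (cj g V), π a = m}
            add_mem' := ?_
            zero_mem' := ⟨1, one_mem _, md.map_one⟩
            neg_mem' := ?_ }, fun m => Iff.rfl⟩
  · rintro _ _ ⟨a, ha, rfl⟩ ⟨b, hb, rfl⟩
    exact ⟨a * b, mul_mem ha hb, md.map_mul a (hle ha) b (hle hb)⟩
  · rintro _ ⟨a, ha, rfl⟩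
    exact ⟨a, ha, (md.neg_eq h hpc _).symm⟩

section

variable (h : Fr T V z) (md : Md V p π) (hp : p ∈ cj g V) (hp1 : p ≠ 1)
  (hU : ∀ m, m ∈ U ↔ ∃ a ∈ ii (cj g V), π a = m)
include h md hp hp1 hU

theorem π_mem_U {a : G} (ha : a ∈ ws V p) : π a ∈ U ↔ a ∈ ii (cj g V) := by
  have hpc : Col V p p := Col.of_mem hp hp hp1 hp1
  rw [hU]
  constructor
  · rintro ⟨b, hb, e⟩
    rcases (md.eq_iff h hpc ha (h.ii_cj_le hp hp1 hb)).1 e.symm with e | e
    · rwa [e]
    · rw [e]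
      refine mul_mem ?_ hb
      intro r hr hr1
      rw [ws_cj]
      exact h.line_le_ws hr hp
  · exact fun ha' => ⟨a, ha', rfl⟩

/-- `|M : U| = |W_z : I_V|` -/
theorem index_U : U.index = (ii V).relIndex (ws V z) := by
  rw [md.index_eq_relIndex (D := U) (E := ii (cj g V)) fun a ha => π_mem_U h md hp hp1 hU ha]
  exact NO3S.TwoFar.index_eq h (l := NO3S.TwoFar.ln V g) (x := NO3S.TwoFar.pt hp hp1) hp

end

section

variable (h : Fr T V z) (md : Md V p π) (hp : p ∈ cj g V) (hp1 : p ≠ 1) (hq : p₁ ∈ cj g V) (hq1 : p₁ ≠ 1)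
  (hne : p₁ ≠ p) (hU : ∀ m, m ∈ U ↔ ∃ a ∈ ii (cj g V), π a = m)
include h md hp hp1 hq hq1 hne

/-- the stabiliser of `λ` normalises the line -/
theorem norm_line {c : centralizer ({p} : Set G)} (hc : c • π p₁ = π p₁) :
    (c : G) ∈ normalizer ((cj g V : Subgroup G) : Set G) := by
  have hpc : Col V p p := Col.of_mem hp hp hp1 hp1
  have hqw : p₁ ∈ ws V p := h.line_le_ws hp hq
  have key : ∀ c : centralizer ({p} : Set G), c • π p₁ = π p₁ → ∀ a ∈ cj g V, (c : G) * a * (c : G)⁻¹ ∈ cj g V := by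
    intro c hc a ha
    rw [← md.smul c p₁ hqw, md.eq_iff h hpc (conj_mem_ws_of_mem c.2 hqw) hqw] at hc
    have e1 : (c : G) * p₁ * (c : G)⁻¹ ∈ cj g V := by
      rcases hc with e | e
      · rw [e]; exact hq
      · rw [e]; exact mul_mem hp hq
    have e2 : (c : G) * p * (c : G)⁻¹ = p :=
      NO3S.Dual.conj_eq_of_comm (mem_centralizer_singleton_iff.1 c.2)
    rcases four_cj h hp hp1 hq hq1 hne ha with e | e | e | e
    · rw [e]; simp
    · rw [e, e2]; exact hp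
    · rw [e]; exact e1
    · rw [e]
      have e3 : (c : G) * (p * p₁) * (c : G)⁻¹ = ((c : G) * p * (c : G)⁻¹) * ((c : G) * p₁ * (c : G)⁻¹) := by group
      rw [e3, e2]
      exact mul_mem hp e1
  refine mem_normalizer_of (fun a ha => key c hc a ha) fun a ha => ?_
  have := key c⁻¹ (by rw [inv_smul_eq_iff, hc]) a ha
  simpa using this

include hU

/-- the stabiliser of `λ` normalises `U` -/
theorem stab_U {c : centralizer ({p} : Set G)} (hc : c • π p₁ = π p₁) {u : M} (hu : u ∈ U) : c • u ∈ U := by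
  obtain ⟨a, ha, rfl⟩ := (hU u).1 hu
  rw [← md.smul c a (h.ii_cj_le hp hp1 ha), hU]
  exact ⟨_, conj_mem_of_normalizer (normalizer_le_normalizer_ii _) (norm_line h md hp hp1 hq hq1 hne hc) ha, rfl⟩

omit hq1 hne in
theorem lam_mem_U : π p₁ ∈ U := by
  rw [hU]
  refine ⟨p₁, ?_, rfl⟩
  intro r hr hr1
  rw [ws_cj]
  exact h.line_le_ws hr hq

/-- **(F2')** -/
theorem mv_U [Finite G] {u : M} (hu : u ∈ U) (hu0 : u ≠ 0) (hul : u ≠ π p₁) :
    ∃ k : centralizer ({p} : Set G), k • π p₁ = π p₁ ∧ k • u = u + π p₁ := by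
  have hpc : Col V p p := Col.of_mem hp hp hp1 hp1
  have hle := h.ii_cj_le hp hp1
  obtain ⟨a, ha, rfl⟩ := (hU u).1 hu
  have hqw : p₁ ∈ ws V p := h.line_le_ws hp hq
  have hpw : p ∈ ws V p := h.line_le_ws hp hp
  have haV : a ∉ cj g V := by
    intro haV
    rcases four_cj h hp hp1 hq hq1 hne haV with e | e | e | e
    · exact hu0 (by rw [e, md.map_one])
    · exact hu0 (by rw [e, md.map_p h hpc])
    · exact hul (by rw [e])
    · exact hul (by rw [e, md.map_mul p hpw p₁ hqw, md.map_p h hpc, zero_add])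
  obtain ⟨k, -, hk, hka⟩ := h.fu_cj ha haV hq hq1
  have hkp : k ∈ centralizer ({p} : Set G) := by
    rw [mem_centralizer_singleton_iff]
    exact (mem_centralizer_iff.1 hk p hp).symm
  refine ⟨⟨k, hkp⟩, ?_, ?_⟩
  · rw [← md.smul ⟨k, hkp⟩ p₁ hqw]
    congr 1
    exact NO3S.Dual.conj_eq_of_comm (mem_centralizer_iff.1 hk p₁ hq).symm
  · rw [← md.smul ⟨k, hkp⟩ a (hle ha)]
    change π (k * a * k⁻¹) = _
    rw [hka, md.map_mul p₁ hqw a (hle ha), add_comm]

omit hp1 hne in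
/-- `W_q` fixes `U`, if `[W_{p₁}, W_q] = 1`. -/
theorem fix_U {q : G} (hcom : NO3S.Pt.Com V p₁ q) {f : centralizer ({p} : Set G)} (hf : (f : G) ∈ ws V q)
    (hp1 : p ≠ 1) {u : M} (hu : u ∈ U) : f • u = u := by
  obtain ⟨a, ha, rfl⟩ := (hU u).1 hu
  rw [← md.smul f a (h.ii_cj_le hp hp1 ha)]
  congr 1
  exact NO3S.Dual.conj_eq_of_comm (hcom a (h.ii_cj_le hq hq1 ha) f hf).symm

end

end Md

end Cfsg.Agent.Omega.NOThree.TF
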