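import Cfsg.Agent.Omega.NOThree.TF.Trans
import Cfsg.Agent.Omega.NOThree.SecOne

/-!
# The family frame of NO-3S TwoFar (text #16267): modules and blocks at all points, types of blocks

* `Fam T V z M π JJ` : for every point `x` the module `M x = M_x` (`π x : G → M x`), the blocks `JJ x` of `C(x)`
  ((b1)), `JJ` is `G`-equivariant;
* `Pair V m p q p₁` : the critical pairs used (exact, `x^b ≠ p x`, `x^b ≠ q x`), `p₁` the first point of the path;
  `Pair.swap`, `Pair.of_typeI`;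
* `AQ V p q` : `W_q` as a subgroup of `C(p)`; `Sg` : `J ∈ Σ`; `RJ M A J = [B_J, A_J]`; `FX M A = C_M(A)`;
  `Trn M J` : `J` is transitive on `B_J - 0`; `Big M A J` : `|[B_J, A_J]| > 2`;
* `TyFF`, `TyT .. n`, `TySP` : the types (b5); `BK` : (b2), (b4), (b5) for a block `J ∈ Σ`, with the set `Y = Y_J` of
  (R1) in #16913; `PK` : the K-input (b2)-(b5) for one pair;
* `FamK` : `Fam` with the K-input for all pairs; `can` : `n_J` is canonical;
* `FamK.sec` : `Sec`.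
-/

set_option autoImplicit false
set_option linter.unusedSectionVars false

namespace Cfsg.Agent.Omega.NOThree.TF

open Subgroup Cfsg Cfsg.Agent.ZN Cfsg.Agent.MinSimple.Geo Cfsg.Agent.Omega.CaseL Cfsg.Agent.Omega.NO3S.TwoOne
open Cfsg.Agent.Omega.NO3S.Pt
open Cfsg.Agent.Omega.NO3S.Dual (nn mem_nn DW)
open Cfsg.Agent.Omega.NOThree.SecOne (Exact ee mem_ee)
open Cfsg.Agent.ZN.Block (conj_mem_of_normalizer conj_mem_of_normalizer' le_normalizer_of_forall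
  mem_normalizer_of)

universe u v w

section defs

variable {H : Type u} [Group H] (M : Type v) [AddCommGroup M] [DistribMulAction H M]

/-- `J` is transitive on the nonzero vectors of `B_J` -/
def Trn (J : Subgroup H) : Prop := ∀ a ∈ BJ M J, ∀ b ∈ BJ M J, a ≠ 0 → b ≠ 0 → ∃ g ∈ J, g • a = b

/-- `[B_J, A_J]`, `A_J = A ∩ J` -/
def RJ (A J : Subgroup H) : AddSubgroup M := AddSubgroup.closure {m | ∃ a ∈ A ⊓ J, ∃ b ∈ BJ M J, m = a • b - b}

/-- `C_M(A)` -/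
def FX (A : Subgroup H) : AddSubgroup M where
  carrier := {m | ∀ a ∈ A, a • m = m}
  add_mem' := by
    intro x y hx hy a ha
    rw [smul_add, hx a ha, hy a ha]
  zero_mem' := fun a _ => smul_zero a
  neg_mem' := by
    intro x hx a ha
    rw [smul_neg, hx a ha]

theorem mem_FX {A : Subgroup H} {m : M} : m ∈ FX M A ↔ ∀ a ∈ A, a • m = m := Iff.rfl

/-- `|[B_J, A_J]| > 2` -/
def Big (A J : Subgroup H) : Prop := ∀ n : M, ∃ a ∈ A ⊓ J, ∃ b ∈ BJ M J, a • b - b ≠ 0 ∧ a • b - b ≠ n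

/-- `J ∈ Σ` : `A_J` moves `B_J` -/
def Sg (A J : Subgroup H) : Prop := ∃ a ∈ A ⊓ J, ∃ b ∈ BJ M J, a • b ≠ b

end defs

variable {G : Type u} [Group G]

/-- `W_q` as a subgroup of `C(p)` -/
abbrev AQ (V : Subgroup G) (p q : G) : Subgroup (centralizer ({p} : Set G)) :=
  (ws V q).subgroupOf (centralizer ({p} : Set G))

/-- The critical pairs of the text: exact, `x^b = p x`, `x^b = q x` never happen; `p₁` is the first point of a
path. -/
structure Pair (V : Subgroup G) (m : ℕ) (p q p₁ : G) : Prop where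
  cr : Cr V (m + 3) p q
  col : Col V p p₁
  ne : p₁ ≠ p
  pth : Pth V (m + 2) p₁ q
  ex : Exact V p q
  nm : ∀ x, Col V x p → x ≠ p → ∀ b ∈ ws V q, b * x * b⁻¹ ≠ p * x
  nm' : ∀ x, Col V x q → x ≠ q → ∀ b ∈ ws V p, b * x * b⁻¹ ≠ q * x

/-! ### the types (b5) -/

section types

variable (V : Subgroup G) (p q p₁ : G) {M : Type v} [AddCommGroup M]
  [DistribMulAction (centralizer ({p} : Set G)) M] (π : G → M)
  (JJ : Set (Subgroup (centralizer ({p} : Set G)))) (J : Subgroup (centralizer ({p} : Set G)))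

/-- type (F) -/
structure TyFF (Y : Set (centralizer ({p} : Set G))) : Prop where
  f : ∀ h ∈ Y, FF4 V p q p₁ π JJ J h
  big : Big M (AQ V p q) J
  alt : Trn M J ∨ ∃ c ∈ RJ M (AQ V p q) J, c ∈ CC M JJ ∧ c ≠ 0

/-- type (T), `n = n_J` -/
structure TyT (n : M) : Prop where
  star : TyS M J
  n_mem : n ∈ BJ M J
  n_ne : n ≠ 0
  /-- `[B_J, A_J] = ⟨n⟩` -/
  eq : ∀ a ∈ AQ V p q ⊓ J, ∀ b ∈ BJ M J, a • b - b = 0 ∨ a • b - b = n
  /-- `n# = v_J` -/
  comp : ∀ g ∈ J, g • (π p₁ - n) = π p₁ - n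
  orb : ∀ c ∈ BJ M J, c ∈ CC M JJ → c ≠ 0 → ∀ g : centralizer ({p} : Set G), g • n ≠ n + c
  small : Trn M J ∨ (ee V q p).relIndex (ws V q) = 2

/-- type (SP) -/
structure TySP (Y : Set (centralizer ({p} : Set G))) : Prop where
  star : TyS M J
  big : Big M (AQ V p q) J
  alt : Trn M J ∨
    (∃ c ∈ RJ M (AQ V p q) J, c ∈ CC M JJ ∧ c ≠ 0) ∧
    (π p₁ ∈ BJ M J → ∃ h ∈ Y, ∃ a ∈ AQ V p q ⊓ J, cc h a (π p₁) ≠ 0 ∧
      ∀ g : centralizer ({p} : Set G), cc h a (π p₁) ≠ g • π p₁)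

/-- the K-input for a block `J ∈ Σ`: (b2), (b4), (b5); `Y = Y_J` -/
structure BK (Y : Set (centralizer ({p} : Set G))) : Prop extends SecJ₀ V p q p₁ π JJ J where
  sub : ∀ h ∈ Y, h ∈ J
  b4 : ∀ h ∈ Y, B4 V p q p₁ π JJ J h
  /-- every element of `A_J` moving `BJ J` moves some `λ^h`, `h ∈ Y` -/
  hit : ∀ a ∈ AQ V p q ⊓ J, (∃ b ∈ BJ M J, a • b ≠ b) → ∃ h ∈ Y, cc h a (π p₁) ≠ 0
  ty : TyFF V p q p₁ π JJ J Y ∨ (∃ n, TyT V p q p₁ π JJ J n) ∨ TySP V p q p₁ π JJ J Y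

/-- the K-input (b2)-(b5) for one pair -/
structure PK : Prop where
  /-- `A` centralises `CC` -/
  cen : ∀ f : centralizer ({p} : Set G), (f : G) ∈ ws V q → ∀ c ∈ CC M JJ, f • c = c
  /-- (b3) -/
  nn_le : ∀ w ∈ nn (ws V p) (kq V p), π w ∈ CC M JJ
  /-- `A = ∏ A_J` -/
  act : ∀ J ∈ JJ, ∀ f ∈ AQ V p q, ∃ f' ∈ AQ V p q ⊓ J, ∀ b ∈ BJ M J, f • b = f' • b
  bk : ∀ J ∈ JJ, Sg M (AQ V p q) J → ∃ Y, BK V p q p₁ π JJ J Y

end types

/-! ### the family -/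

section fam

variable (T V : Subgroup G) (z : G) (m : ℕ) (M : G → Type v) [∀ x, AddCommGroup (M x)]
  [∀ x : G, DistribMulAction (centralizer ({x} : Set G)) (M x)] (π : ∀ x : G, G → M x)
  (JJ : ∀ x : G, Set (Subgroup (centralizer ({x} : Set G))))

/-- modules and blocks at all points -/
structure Fam : Prop where
  fr : Fr T V z
  md : ∀ x, Col V x x → Md V x (π x)
  blk : ∀ x, Col V x x → Blk (M x) (JJ x)
  eqv : ∀ (g p q : G) (e : g * p * g⁻¹ = q), ∀ J ∈ JJ p, cm e J ∈ JJ q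

/-- the family with the K-input for all pairs -/
structure FamK : Prop extends Fam T V z M π JJ where
  pk : ∀ p q p₁, Pair V m p q p₁ → PK V p q p₁ (π p) (JJ p)
  can : ∀ p q q' p₁, Pair V m p q p₁ → Pair V m p q' p₁ → ∀ J ∈ JJ p, ∀ n n' : M p,
    TyT V p q p₁ (π p) (JJ p) J n → TyT V p q' p₁ (π p) (JJ p) J n' → n = n'

end fam

section basic

variable {T V : Subgroup G} {z : G} {m : ℕ} {M : G → Type v} [∀ x, AddCommGroup (M x)]
  [∀ x : G, DistribMulAction (centralizer ({x} : Set G)) (M x)] {π : ∀ x : G, G → M x}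
  {JJ : ∀ x : G, Set (Subgroup (centralizer ({x} : Set G)))} {p q p₁ q₁ g : G}

theorem Fam.sec (F : Fam T V z M π JJ) (hP : Pair V m p q p₁) (K : PK V p q p₁ (π p) (JJ p)) :
    Sec T V z m p q p₁ (π p) (JJ p) where
  fr := F.fr
  cr := hP.cr
  col := hP.col
  ne := hP.ne
  pth := hP.pth
  md := F.md p hP.col.left
  blk := F.blk p hP.col.left
  ex := by
    intro w hw hf f hfq
    refine ((mem_ee.1 (hP.ex.cent w hw fun b hb => ?_)).2 f hfq).symm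
    rw [mem_zpowers_iff_of_mul_self (F.fr.pt_sq hP.col.left)]
    rcases hf b hb with e | e
    · left; rw [e, mul_inv_cancel]
    · right; rw [e, mul_inv_cancel_right]
  cen := K.cen
  nn_le := K.nn_le

theorem FamK.sec (F : FamK T V z m M π JJ) (hP : Pair V m p q p₁) : Sec T V z m p q p₁ (π p) (JJ p) :=
  F.toFam.sec hP (F.pk p q p₁ hP)

/-- the blocks at `q` are the images of those at `p` -/
theorem Fam.eqv' (F : Fam T V z M π JJ) (e : g * p * g⁻¹ = q) (J' : Subgroup (centralizer ({q} : Set G)))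
    (hJ' : J' ∈ JJ q) : ∃ J ∈ JJ p, cm e J = J' := by
  obtain ⟨J, h1, h2⟩ := exists_cm e J'
  exact ⟨J, h2 ▸ F.eqv _ _ _ (inv_rel e) J' hJ', h1⟩

/-- the transport `M_p ≃+ M_q`, `q = g p g⁻¹` -/
noncomputable def Fam.tr (F : Fam T V z M π JJ) (hp : Col V p p) (e : g * p * g⁻¹ = q) : M p ≃+ M q :=
  Md.tr F.fr hp (F.md p hp) (F.md q (Md.col_of_conj e hp)) e

section tr

variable (F : Fam T V z M π JJ) (hp : Col V p p) (e : g * p * g⁻¹ = q)

theorem Fam.tr_π {a : G} (ha : a ∈ ws V p) : F.tr hp e (π p a) = π q (g * a * g⁻¹) :=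
  Md.tr_π F.fr hp (F.md p hp) (F.md q (Md.col_of_conj e hp)) e ha

theorem Fam.tr_smul (c : centralizer ({p} : Set G)) (v : M p) : F.tr hp e (c • v) = ce e c • F.tr hp e v :=
  Md.tr_smul F.fr hp (F.md p hp) (F.md q (Md.col_of_conj e hp)) e c v

theorem Fam.mem_BJ {J : Subgroup (centralizer ({p} : Set G))} {v : M p} :
    F.tr hp e v ∈ BJ (M q) (cm e J) ↔ v ∈ BJ (M p) J :=
  Md.mem_BJ_tr F.fr hp (F.md p hp) (F.md q (Md.col_of_conj e hp)) e

theorem Fam.mem_CC {v : M p} : F.tr hp e v ∈ CC (M q) (JJ q) ↔ v ∈ CC (M p) (JJ p) :=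
  Md.mem_CC_tr F.fr hp (F.md p hp) (F.md q (Md.col_of_conj e hp)) e (F.eqv _ _ _ e) (F.eqv' e)

include F hp in
theorem Fam.trn {J : Subgroup (centralizer ({p} : Set G))} (h : Trn (M p) J) : Trn (M q) (cm e J) := by
  intro a ha b hb ha0 hb0
  obtain ⟨a, rfl⟩ := (F.tr hp e).surjective a
  obtain ⟨b, rfl⟩ := (F.tr hp e).surjective b
  obtain ⟨c, hc, hcab⟩ := h a ((F.mem_BJ hp e).1 ha) b ((F.mem_BJ hp e).1 hb)
    (fun h0 => ha0 (by rw [h0, map_zero])) (fun h0 => hb0 (by rw [h0, map_zero]))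
  exact ⟨ce e c, (mem_cm e).2 hc, by rw [← F.tr_smul, hcab]⟩

theorem mem_cm_iff {J : Subgroup (centralizer ({p} : Set G))} {d : centralizer ({q} : Set G)} :
    d ∈ cm e J ↔ ∃ c ∈ J, ce e c = d := Iff.rfl

theorem cj_cm {J : Subgroup (centralizer ({p} : Set G))} (c : centralizer ({p} : Set G)) :
    MinSimple.Geo.cj (ce e c) (cm e J) = cm e (MinSimple.Geo.cj c J) := by
  ext d
  obtain ⟨d, rfl⟩ := (ce e).surjective d
  rw [MinSimple.Geo.mem_cj, mem_cm, MinSimple.Geo.mem_cj, ← map_inv, ← map_mul, ← map_mul, mem_cm]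

theorem cm_inj {J J' : Subgroup (centralizer ({p} : Set G))} (h : cm e J = cm e J') : J = J' := by
  ext c
  rw [← mem_cm e, h, mem_cm e]

include F hp in
theorem Fam.tyS {J : Subgroup (centralizer ({p} : Set G))} (h : TyS (M p) J) : TyS (M q) (cm e J) := by
  intro d hd
  obtain ⟨d, rfl⟩ := (ce e).surjective d
  rw [cj_cm] at hd
  obtain ⟨y, hy, hyb⟩ := h d (cm_inj e hd)
  refine ⟨ce e y, (mem_cm e).2 hy, fun b hb => ?_⟩
  obtain ⟨b, rfl⟩ := (F.tr hp e).surjective b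
  rw [← F.tr_smul, ← F.tr_smul, hyb b ((F.mem_BJ hp e).1 hb)]

theorem ce_mem_AQ {q' : G} {a : centralizer ({p} : Set G)} :
    ce e a ∈ AQ V q (g * q' * g⁻¹) ↔ a ∈ AQ V p q' := by
  rw [mem_subgroupOf, mem_subgroupOf, ce_val]
  constructor
  · intro h
    have h1 := conj_mem_ws g⁻¹ h
    have e1 : g⁻¹ * (g * (a : G) * g⁻¹) * g⁻¹⁻¹ = a := by group
    have e2 : g⁻¹ * (g * q' * g⁻¹) * g⁻¹⁻¹ = q' := by group
    rwa [e1, e2] at h1
  · exact fun h => conj_mem_ws g h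

theorem ee_conj (q' : G) : ee V (g * p * g⁻¹) (g * q' * g⁻¹) = MinSimple.Geo.cj g (ee V p q') := by
  ext a
  rw [MinSimple.Geo.mem_cj, mem_ee, mem_ee]
  have h1 : ∀ x y : G, x ∈ ws V (g * y * g⁻¹) ↔ g⁻¹ * x * g ∈ ws V y := by
    intro x y
    rw [← MinSimple.Geo.cj_ws, MinSimple.Geo.mem_cj]
  rw [h1]
  refine and_congr_right fun _ => ⟨fun h b hb => ?_, fun h b hb => ?_⟩
  · have h2 := h (g * b * g⁻¹) ((h1 _ _).2 (by
      have : g⁻¹ * (g * b * g⁻¹) * g = b := by group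
      rwa [this]))
    calc g⁻¹ * a * g * b = g⁻¹ * (a * (g * b * g⁻¹)) * g := by group
      _ = b * (g⁻¹ * a * g) := by rw [h2]; group
  · have h2 := h _ ((h1 _ _).1 hb)
    calc a * b = g * ((g⁻¹ * a * g) * (g⁻¹ * b * g)) * g⁻¹ := by group
      _ = b * a := by rw [h2]; group

theorem relIndex_ee_conj (q' : G) :
    (ee V (g * p * g⁻¹) (g * q' * g⁻¹)).relIndex (ws V (g * p * g⁻¹)) = (ee V p q').relIndex (ws V p) := by
  rw [ee_conj, ← MinSimple.Geo.cj_ws, MinSimple.Geo.relIndex_cj]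

/-- transport of type (T) -/
theorem Fam.tyT (hp₁ : p₁ ∈ ws V p) {q' : G} {J : Subgroup (centralizer ({p} : Set G))} {n : M p}
    (h : TyT V p q' p₁ (π p) (JJ p) J n) :
    TyT V q (g * q' * g⁻¹) (g * p₁ * g⁻¹) (π q) (JJ q) (cm e J) (F.tr hp e n) where
  star := F.tyS hp e h.star
  n_mem := (F.mem_BJ hp e).2 h.n_mem
  n_ne := fun h0 => h.n_ne ((F.tr hp e).injective (by rw [h0, map_zero]))
  eq := by
    rintro a ⟨ha, haJ⟩ b hb
    obtain ⟨a, rfl⟩ := (ce e).surjective a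
    obtain ⟨b, rfl⟩ := (F.tr hp e).surjective b
    rw [← F.tr_smul, ← map_sub]
    rcases h.eq a ⟨(ce_mem_AQ e).1 ha, (mem_cm e).1 haJ⟩ b ((F.mem_BJ hp e).1 hb) with h1 | h1
    · left; rw [h1, map_zero]
    · right; rw [h1]
  comp := by
    intro d hd
    obtain ⟨c, hc, rfl⟩ := exists_of_mem_cm e hd
    rw [← F.tr_π hp e hp₁, ← map_sub, ← F.tr_smul, h.comp c hc]
  orb := by
    intro c hc hcC hc0 d
    obtain ⟨c, rfl⟩ := (F.tr hp e).surjective c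
    obtain ⟨d, rfl⟩ := (ce e).surjective d
    rw [← F.tr_smul, ← map_add]
    intro h1
    exact h.orb c ((F.mem_BJ hp e).1 hc) ((F.mem_CC hp e).1 hcC) (fun h0 => hc0 (by rw [h0, map_zero])) d
      ((F.tr hp e).injective h1)
  small := by
    rcases h.small with h1 | h1
    · exact Or.inl (F.trn hp e h1)
    · right
      have h2 : (ee V (g * q' * g⁻¹) q).relIndex (ws V (g * q' * g⁻¹)) = (ee V q' p).relIndex (ws V q') := by
        have h3 := relIndex_ee_conj (V := V) (p := q') (g := g) p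
        rwa [e] at h3
      rw [h2, h1]

end tr

theorem nm_conj (g : G) (h : ∀ x, Col V x p → x ≠ p → ∀ b ∈ ws V q, b * x * b⁻¹ ≠ p * x) :
    ∀ x, Col V x (g * p * g⁻¹) → x ≠ g * p * g⁻¹ → ∀ b ∈ ws V (g * q * g⁻¹), b * x * b⁻¹ ≠ g * p * g⁻¹ * x := by
  intro x hx hxp b hb e
  have hx' := hx.conj g⁻¹
  have e2 : g⁻¹ * (g * p * g⁻¹) * g⁻¹⁻¹ = p := by group
  rw [e2] at hx'
  have hb' := conj_mem_ws g⁻¹ hb
  have e3 : g⁻¹ * (g * q * g⁻¹) * g⁻¹⁻¹ = q := by group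
  rw [e3] at hb'
  refine h _ hx' (fun e4 => hxp ?_) _ hb' ?_
  · calc x = g * (g⁻¹ * x * g⁻¹⁻¹) * g⁻¹ := by group
      _ = g * p * g⁻¹ := by rw [e4]
  · calc g⁻¹ * b * g⁻¹⁻¹ * (g⁻¹ * x * g⁻¹⁻¹) * (g⁻¹ * b * g⁻¹⁻¹)⁻¹ = g⁻¹ * (b * x * b⁻¹) * g := by group
      _ = p * (g⁻¹ * x * g⁻¹⁻¹) := by rw [e]; group

/-- the transport of a pair -/
theorem Pair.conj (hP : Pair V m p q p₁) (g : G) :
    Pair V m (g * p * g⁻¹) (g * q * g⁻¹) (g * p₁ * g⁻¹) where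
  cr := hP.cr.conj g
  col := hP.col.conj g
  ne := fun e => hP.ne (by
    calc p₁ = g⁻¹ * (g * p₁ * g⁻¹) * g := by group
      _ = p := by rw [e]; group)
  pth := hP.pth.conj g
  ex := by
    have h1 : ∀ x y : G, x ∈ ws V (g * y * g⁻¹) ↔ g⁻¹ * x * g ∈ ws V y := by
      intro x y
      rw [← MinSimple.Geo.cj_ws, MinSimple.Geo.mem_cj]
    have h2 : ∀ x y y' : G, x ∈ ee V (g * y * g⁻¹) (g * y' * g⁻¹) ↔ g⁻¹ * x * g ∈ ee V y y' := by
      intro x y y'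
      rw [ee_conj, MinSimple.Geo.mem_cj]
    have h3 : ∀ x y : G, x ∈ kq V (g * y * g⁻¹) → g⁻¹ * x * g ∈ kq V y := by
      intro x y hx
      have := conj_mem_kq g⁻¹ hx
      have e2 : g⁻¹ * (g * y * g⁻¹) * g⁻¹⁻¹ = y := by group
      rw [e2, inv_inv] at this
      exact this
    have h4 : ∀ c y : G, c ∈ zpowers (g * y * g⁻¹) → g⁻¹ * c * g ∈ zpowers y := by
      intro c y hc
      obtain ⟨k, rfl⟩ := mem_zpowers_iff.1 hc
      have : g⁻¹ * (g * y * g⁻¹) ^ k * g = y ^ k := by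
        rw [conj_zpow]; group
      rw [this]
      exact zpow_mem (mem_zpowers y) k
    have h5 : ∀ w y y' : G, (∀ b ∈ ws V (g * y' * g⁻¹), b * w * b⁻¹ * w⁻¹ ∈ zpowers (g * y * g⁻¹)) →
        ∀ b ∈ ws V y', b * (g⁻¹ * w * g) * b⁻¹ * (g⁻¹ * w * g)⁻¹ ∈ zpowers y := by
      intro w y y' hw b hb
      have h6 := h4 _ _ (hw (g * b * g⁻¹) ((h1 _ _).2 (by
        have : g⁻¹ * (g * b * g⁻¹) * g = b := by group
        rwa [this])))
      have h7 : g⁻¹ * (g * b * g⁻¹ * w * (g * b * g⁻¹)⁻¹ * w⁻¹) * g =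
          b * (g⁻¹ * w * g) * b⁻¹ * (g⁻¹ * w * g)⁻¹ := by group
      rwa [h7] at h6
    refine ⟨fun b hb hk => ?_, fun w hw hk => ?_, fun w hw hk => ?_, fun b hb hk => ?_, ?_⟩
    · rw [h2]; exact hP.ex.kq _ ((h1 _ _).1 hb) (h3 _ _ hk)
    · rw [h2]; exact hP.ex.kq' _ ((h1 _ _).1 hw) (h3 _ _ hk)
    · rw [h2]; exact hP.ex.cent _ ((h1 _ _).1 hw) (h5 _ _ _ hk)
    · rw [h2]; exact hP.ex.cent' _ ((h1 _ _).1 hb) (h5 _ _ _ hk)
    · rw [relIndex_ee_conj, relIndex_ee_conj]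
      exact hP.ex.card
  nm := nm_conj g hP.nm
  nm' := nm_conj g hP.nm'

/-- the pair `(q, p)` -/
theorem Pair.swap [Finite G] (h : Fr T V z) (hP : Pair V m p q p₁) : ∃ q₁, Pair V m q p q₁ := by
  obtain ⟨r, g, h1, h2, h3, h4, h5, h6, -⟩ := hP.cr.last h
  exact ⟨r, hP.cr.symm, Col.of_mem h3 h2 h5 h4, h6, h1.symm, hP.ex.symm, hP.nm', hP.nm⟩

/-- critical pairs of type I -/
theorem Pair.of_typeI [Finite G] (h : Fr T V z)
    (hNO : LemmaM.NoOver (NO3S.TwoFar.inc (V := V)) NO3S.TwoFar.RR NO3S.TwoFar.WS NO3S.TwoFar.VL)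
    (hc : Cr V (m + 3) p q) (hcol : Col V p p₁) (hne : p₁ ≠ p) (hpth : Pth V (m + 2) p₁ q)
    (hp : p ∉ ws V q) (hq : q ∉ ws V p) : Pair V m p q p₁ where
  cr := hc
  col := hcol
  ne := hne
  pth := hpth
  ex := SecOne.exact_of_typeI h (by omega) hNO hc hp hq
  nm := by
    intro x hx _ b hb e
    apply hp
    have h7 : b * x * b⁻¹ * x⁻¹ ∈ ws V q := by
      rw [SecOne.comm_inv_eq b x]
      exact inv_mem (hc.comm_mem_right h (h.mem_ws_of_col hx.symm) hb)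
    rwa [e, mul_inv_cancel_right] at h7
  nm' := by
    intro x hx _ b hb e
    apply hq
    have h7 : b * x * b⁻¹ * x⁻¹ ∈ ws V p := by
      rw [SecOne.comm_inv_eq b x]
      exact inv_mem (hc.symm.comm_mem_right h (h.mem_ws_of_col hx.symm) hb)
    rwa [e, mul_inv_cancel_right] at h7

/-- **`n_J` is canonical**, equivariant form -/
theorem FamK.can' (F : FamK T V z m M π JJ) {q' p₁' : G} (hP : Pair V m p q p₁)
    (e : g * p * g⁻¹ = p₁') (hP' : Pair V m p₁' q' (g * p₁ * g⁻¹))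
    {J : Subgroup (centralizer ({p} : Set G))} (hJ : J ∈ JJ p) {n : M p} {n' : M p₁'}
    (h : TyT V p q p₁ (π p) (JJ p) J n)
    (h' : TyT V p₁' q' (g * p₁ * g⁻¹) (π p₁') (JJ p₁') (cm e J) n') : F.tr hP.col.left e n = n' := by
  have h1 := F.tyT hP.col.left e (F.fr.mem_ws_of_col hP.col) h
  have hP2 := hP.conj g
  rw [e] at hP2
  exact F.can p₁' _ q' _ hP2 hP' _ (F.eqv _ _ _ e J hJ) _ _ h1 h'

end basic

end Cfsg.Agent.Omega.NOThree.TF
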