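import Cfsg.Agent.Omega.NOThree.TF.Fam
import Cfsg.Agent.Omega.NOThree.MPlus
import Cfsg.Agent.Omega.NO3S.TwoMid.Base

/-!
# TwoFar, text #16267, section 4: pairs full of points

`R = [W_p, W_q] = rr V p q`.

* `not_full` : `R - p`, `R - q` do not both consist of points collinear with `p`, resp. `q`;
* `FamK.not_trn` (4.1): `λ ∈ BJ J`, `J` transitive on `BJ J - 0` is impossible;
* `FamK.not_tyT` (4.1): `λ = n_J ∈ BJ J`, `J` of type (T) is impossible;
* `XS V p q` : the points `x ∼ p` with some `f ∈ W_q`, `x^f ≠ x` and (D);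
* `exists_special_of_not_mem` : (D) for a suitable `x = p₁^h` if `λ ∉ BJ J`;
* `FamK.exists_special` (4.2) : `XS V p q` is not empty;
* `FamK.exists_goal` : a goal pair exists (sections 1, 3-5 with LEMMA M+).
-/

set_option autoImplicit false
set_option linter.unusedSectionVars false

namespace Cfsg.Agent.Omega.NOThree.TF

open Subgroup Cfsg Cfsg.Agent.ZN Cfsg.Agent.MinSimple.Geo Cfsg.Agent.Omega.CaseL Cfsg.Agent.Omega.NO3S.TwoOne
open Cfsg.Agent.Omega.NO3S.Pt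
open Cfsg.Agent.Omega.NO3S.TwoMid (rr comm_mem_rr rr_comm)
open Cfsg.Agent.Omega.NO3S.Dual (nn mem_nn DW)
open Cfsg.Agent.Omega.NOThree.SecOne (Exact ee mem_ee)
open Cfsg.Agent.ZN.Block (conj_mem_of_normalizer conj_mem_of_normalizer' le_normalizer_of_forall
  mem_normalizer_of)

universe u v

variable {G : Type u} [Group G] {T V : Subgroup G} {z : G} {m : ℕ} {p q p₁ q₁ : G}

/-! ### K-free part -/

theorem Pair.pq (hP : Pair V m p q p₁) (h : Fr T V z) : p ≠ q := by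
  rintro rfl
  exact hP.cr.ne fun a ha b hb => h.ws_comm hP.col.left a ha b hb

theorem not_le_zpowers (h : Fr T V z) (hP : Pair V m p q p₁) : ∃ e ∈ rr V p q, e ≠ 1 ∧ e ≠ p := by
  by_contra hcon
  push Not at hcon
  apply hP.cr.ne
  intro w hw b hb
  refine (mem_ee.1 (hP.ex.cent w hw fun b hb => ?_)).2 b hb
  rw [mem_zpowers_iff_of_mul_self (h.pt_sq hP.col.left)]
  have h1 : b * w * b⁻¹ * w⁻¹ ∈ rr V p q := by
    have e : b * w * b⁻¹ * w⁻¹ = (w * b * w⁻¹ * b⁻¹)⁻¹ := by group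
    rw [e]
    exact inv_mem (comm_mem_rr hw hb)
  by_cases h2 : b * w * b⁻¹ * w⁻¹ = 1
  · exact Or.inl h2
  · exact Or.inr (hcon _ h1 h2)

theorem not_le_zpowers' (h : Fr T V z) (hP : Pair V m p q p₁) (hq : Col V q q) :
    ∃ e ∈ rr V p q, e ≠ 1 ∧ e ≠ q := by
  by_contra hcon
  push Not at hcon
  apply hP.cr.ne
  intro w hw b hb
  refine ((mem_ee.1 (hP.ex.cent' b hb fun w hw => ?_)).2 w hw).symm
  rw [mem_zpowers_iff_of_mul_self (h.pt_sq hq)]
  have h1 : w * b * w⁻¹ * b⁻¹ ∈ rr V p q := comm_mem_rr hw hb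
  by_cases h2 : w * b * w⁻¹ * b⁻¹ = 1
  · exact Or.inl h2
  · exact Or.inr (hcon _ h1 h2)

/-- **(4.1), K-free part** -/
theorem not_full (h : Fr T V z) (hP : Pair V m p q p₁) (hp : ∀ e ∈ rr V p q, e ≠ 1 → e ≠ p → Col V p e)
    (hq : ∀ e ∈ rr V p q, e ≠ 1 → e ≠ q → Col V q e) : False := by
  have hqq := hP.cr.path.right
  obtain ⟨a, ha, ha1, hap⟩ := not_le_zpowers h hP
  obtain ⟨b, hb, hb1, hbq⟩ := not_le_zpowers' h hP hqq
  have hpq := hP.pq h
  have hp1 := hP.col.ne_one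
  have hq1 := hqq.ne_one
  obtain ⟨e, he, he1, hep, heq⟩ : ∃ e ∈ rr V p q, e ≠ 1 ∧ e ≠ p ∧ e ≠ q := by
    by_cases haq : a = q
    · by_cases hbp : b = p
      · refine ⟨a * b, mul_mem ha hb, ?_, ?_, ?_⟩
        · rw [haq, hbp]
          intro e
          apply hpq
          calc p = q⁻¹ * (q * p) := by group
            _ = q⁻¹ := by rw [e, mul_one]
            _ = q := inv_eq_of_mul_eq_one_left (h.pt_sq hqq)
        · rw [hbp]
          intro e
          exact ha1 (by simpa using e)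
        · rw [haq]
          intro e
          exact hb1 (by simpa using e)
      · exact ⟨b, hb, hb1, hbp, hbq⟩
    · exact ⟨a, ha, ha1, hap, haq⟩
  have h1 := hp e he he1 hep
  have h2 := hq e he he1 heq
  exact hP.cr.ne (hP.cr.min 2 (by omega) p q ((Pth.of_col h1).step h2.symm))

theorem col_mul (h : Fr T V z) {x : G} (hx : Col V p x) (hne : x ≠ p) : Col V p (p * x) := by
  obtain ⟨g, hp, hx', hp1, -⟩ := id hx
  refine ⟨g, hp, mul_mem hp hx', hp1, fun e => hne ?_⟩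
  calc x = p⁻¹ * (p * x) := by group
    _ = p⁻¹ := by rw [e, mul_one]
    _ = p := inv_eq_of_mul_eq_one_left (h.pt_sq hx.left)

/-- index 2: `[M, A] = {0, n}` -/
theorem not_big {M : Type v} [AddCommGroup M] [DistribMulAction (centralizer ({p} : Set G)) M] {π : G → M}
    (md : Md V p π) (h1 : (ee V p q).relIndex (ws V p) = 2) (h2 : (ee V q p).relIndex (ws V q) = 2)
    (hle : ws V q ≤ centralizer ({p} : Set G)) (J : Subgroup (centralizer ({p} : Set G))) :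
    ¬ Big M (AQ V p q) J := by
  have key : ∀ {X Y : Subgroup G}, X.relIndex Y = 2 → ∃ y ∈ Y, y ∉ X ∧ ∀ x ∈ Y, x ∉ X → y⁻¹ * x ∈ X := by
    intro X Y hXY
    obtain ⟨y, hy, hyX⟩ : ∃ y ∈ Y, y ∉ X := by
      by_contra hcon
      push Not at hcon
      have : X.relIndex Y = 1 := relIndex_eq_one.2 hcon
      omega
    refine ⟨y, hy, hyX, fun x hx hxX => ?_⟩
    have h3 := (Subgroup.mul_mem_iff_of_index_two (H := X.subgroupOf Y) hXY (a := ⟨y, hy⟩⁻¹) (b := ⟨x, hx⟩)).2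
      ⟨fun h => absurd (inv_mem_iff.1 h) hyX, fun h => absurd h hxX⟩
    exact h3
  obtain ⟨w₀, hw₀, -, hw⟩ := key h1
  obtain ⟨b₀, hb₀, -, hb⟩ := key h2
  intro hbig
  set b₀' : centralizer ({p} : Set G) := ⟨b₀, hle hb₀⟩ with hb₀'
  obtain ⟨a, ⟨ha, -⟩, v, -, hne, hne'⟩ := hbig (b₀' • π w₀ - π w₀)
  obtain ⟨w, hww, rfl⟩ := md.surj v
  have haq : (a : G) ∈ ws V q := ha
  by_cases hae : (a : G) ∈ ee V q p
  · apply hne
    rw [← md.smul a w hww, NO3S.Dual.conj_eq_of_comm ((mem_ee.1 hae).2 w hww), sub_self]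
  have h3 : (a : G) * w * (a : G)⁻¹ = b₀ * w * b₀⁻¹ := by
    have h4 := (mem_ee.1 (hb _ haq hae)).2 w hww
    calc (a : G) * w * (a : G)⁻¹ = b₀ * ((b₀⁻¹ * a) * w * (b₀⁻¹ * a)⁻¹) * b₀⁻¹ := by group
      _ = b₀ * w * b₀⁻¹ := by rw [NO3S.Dual.conj_eq_of_comm h4]
  have h5 : a • π w = b₀' • π w := by
    rw [← md.smul a w hww, ← md.smul b₀' w hww, h3]
  by_cases hwe : w ∈ ee V p q
  · apply hne
    rw [h5, ← md.smul b₀' w hww, NO3S.Dual.conj_eq_of_comm ((mem_ee.1 hwe).2 b₀ hb₀).symm, sub_self]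
  · apply hne'
    have h6 := hw _ hww hwe
    have h7 : π w = π w₀ + π (w₀⁻¹ * w) := by
      rw [← md.map_mul _ hw₀ _ (mem_ee.1 h6).1, mul_inv_cancel_left]
    have h8 : b₀' • π (w₀⁻¹ * w) = π (w₀⁻¹ * w) := by
      rw [← md.smul b₀' _ (mem_ee.1 h6).1, NO3S.Dual.conj_eq_of_comm ((mem_ee.1 h6).2 b₀ hb₀).symm]
    rw [h5, h7, smul_add, h8, add_sub_add_right_eq_sub]

/-- `{v | [v, f] ∈ D}` -/
def cmf {H : Type u} [Group H] {M : Type v} [AddCommGroup M] [DistribMulAction H M] (f : H)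
    (D : AddSubgroup M) : AddSubgroup M where
  carrier := {v | f • v - v ∈ D}
  add_mem' := by
    intro a b ha hb
    have e : f • (a + b) - (a + b) = (f • a - a) + (f • b - b) := by rw [smul_add]; abel
    change f • (a + b) - (a + b) ∈ D
    rw [e]
    exact add_mem ha hb
  zero_mem' := by
    change f • (0 : M) - 0 ∈ D
    rw [smul_zero, sub_self]
    exact zero_mem _
  neg_mem' := by
    intro a ha
    have e : f • (-a) - (-a) = -(f • a - a) := by rw [smul_neg]; abel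
    change f • (-a) - (-a) ∈ D
    rw [e]
    exact neg_mem ha

theorem mem_cmf {H : Type u} [Group H] {M : Type v} [AddCommGroup M] [DistribMulAction H M] {f : H}
    {D : AddSubgroup M} {v : M} : v ∈ cmf f D ↔ f • v - v ∈ D := Iff.rfl

/-! ### the image of `R` in `M_p` -/

section image

variable {M : Type v} [AddCommGroup M] [DistribMulAction (centralizer ({p} : Set G)) M] {π : G → M}
  {JJ : Set (Subgroup (centralizer ({p} : Set G)))} {J : Subgroup (centralizer ({p} : Set G))}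

theorem π_rr_mem [Finite G] (s : Sec T V z m p q p₁ π JJ) {D : AddSubgroup M}
    (hD : ∀ f ∈ AQ V p q, ∀ v : M, f • v - v ∈ D) : ∀ e ∈ rr V p q, e ∈ ws V p ∧ π e ∈ D := by
  let X : Subgroup G :=
    { carrier := {e | e ∈ ws V p ∧ π e ∈ D}
      one_mem' := ⟨one_mem _, by rw [s.md.map_one]; exact zero_mem _⟩
      mul_mem' := by
        rintro a b ⟨ha, ha'⟩ ⟨hb, hb'⟩
        refine ⟨mul_mem ha hb, ?_⟩
        rw [s.md.map_mul a ha b hb]
        exact add_mem ha' hb'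
      inv_mem' := by
        rintro a ⟨ha, ha'⟩
        refine ⟨inv_mem ha, ?_⟩
        rwa [inv_eq_of_mul_eq_one_left (s.fr.ws_sq s.hp a ha)] }
  have h1 : rr V p q ≤ X := by
    unfold rr
    rw [closure_le]
    rintro _ ⟨x, hx, y, hy, rfl⟩
    have hyp : y ∈ centralizer ({p} : Set G) := s.wq_le hy
    have hxi : x⁻¹ = x := inv_eq_of_mul_eq_one_left (s.fr.ws_sq s.hp x hx)
    have hc : y * x * y⁻¹ ∈ ws V p := conj_mem_ws_of_mem hyp hx
    have e : x * y * x⁻¹ * y⁻¹ = x * (y * x * y⁻¹) := by rw [hxi]; group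
    refine ⟨?_, ?_⟩
    · rw [e]; exact mul_mem hx hc
    · rw [e, s.md.map_mul x hx _ hc]
      have h2 := s.md.smul ⟨y, hyp⟩ x hx
      change π (y * x * y⁻¹) = _ at h2
      rw [h2, add_comm, ← s.md.sub_eq s.fr s.hp]
      exact hD ⟨y, hyp⟩ hy (π x)
  exact fun e he => h1 he

/-- `f • v = v` for `f ∈ A` and `v ∈ BJ J`, `J ∉ Σ` -/
theorem fix_of_not_sg (K : PK V p q p₁ π JJ) (hJ : J ∈ JJ) (hs : ¬ Sg M (AQ V p q) J)
    {f : centralizer ({p} : Set G)} (hf : f ∈ AQ V p q) {v : M} (hv : v ∈ BJ M J) : f • v = v := by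
  obtain ⟨f', hf', hff'⟩ := K.act J hJ f hf
  rw [hff' v hv]
  by_contra hne
  exact hs ⟨f', hf', v, hv, hne⟩

/-- `λ ∈ BJ J` : `Σ ⊆ {J}` -/
theorem eq_of_sg (s : Sec T V z m p q p₁ π JJ) (K : PK V p q p₁ π JJ) (hJ : J ∈ JJ)
    (hl : π p₁ ∈ BJ M J) {J' : Subgroup (centralizer ({p} : Set G))} (hJ' : J' ∈ JJ)
    (hs : Sg M (AQ V p q) J') : J' = J := by
  by_contra hne
  obtain ⟨Y, bk⟩ := K.bk J' hJ' hs
  obtain ⟨g, hg, hgl⟩ := bk.moves
  exact hgl (s.blk.comm J hJ J' hJ' (Ne.symm hne) _ hl g hg)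

/-- `λ ∈ BJ J` : `[M, A] ≤ [B_J, A_J]` -/
theorem sub_mem_RJ (s : Sec T V z m p q p₁ π JJ) (K : PK V p q p₁ π JJ) (hJ : J ∈ JJ)
    (hl : π p₁ ∈ BJ M J) {f : centralizer ({p} : Set G)} (hf : f ∈ AQ V p q) (v : M) :
    f • v - v ∈ RJ M (AQ V p q) J := by
  have key : v ∈ cmf f (RJ M (AQ V p q) J) := by
    refine s.blk.ind (fun J' hJ' b hb => ?_) (fun c hc => ?_) v
    · rw [mem_cmf]
      by_cases h1 : J' = J
      · subst h1
        obtain ⟨f', hf', hff'⟩ := K.act J' hJ' f hf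
        rw [hff' b hb]
        exact AddSubgroup.subset_closure ⟨f', hf', b, hb, rfl⟩
      · rw [fix_of_not_sg K hJ' (fun hs => h1 (eq_of_sg s K hJ hl hJ' hs)) hf hb, sub_self]
        exact zero_mem _
    · rw [mem_cmf, K.cen f hf c hc, sub_self]
      exact zero_mem _
  exact key

theorem RJ_le (A J : Subgroup (centralizer ({p} : Set G))) : RJ M A J ≤ BJ M J := by
  unfold RJ
  rw [AddSubgroup.closure_le]
  rintro _ ⟨a, ha, b, -, rfl⟩
  exact sub_mem_BJ ha.2 b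

theorem mem_RJ_of_tyT (s : Sec T V z m p q p₁ π JJ) {n : M} (ht : TyT V p q p₁ π JJ J n) {v : M}
    (hv : v ∈ RJ M (AQ V p q) J) : v = 0 ∨ v = n := by
  have h1 : RJ M (AQ V p q) J ≤ AddSubgroup.zmultiples n := by
    unfold RJ
    rw [AddSubgroup.closure_le]
    rintro _ ⟨a, ha, b, hb, rfl⟩
    rcases ht.eq a ha b hb with e | e
    · rw [e]; exact zero_mem _
    · rw [e]; exact AddSubgroup.mem_zmultiples n
  obtain ⟨k, rfl⟩ := AddSubgroup.mem_zmultiples_iff.1 (h1 hv)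
  have h2 : (2 : ℤ) • n = 0 := by rw [two_zsmul]; exact s.md.two s.fr s.hp n
  rcases Int.even_or_odd' k with ⟨l, rfl | rfl⟩
  · left; rw [mul_comm, mul_zsmul, h2, zsmul_zero]
  · right; rw [add_zsmul, mul_comm, mul_zsmul, h2, zsmul_zero, zero_add, one_zsmul]

/-- all elements of `R - p` are points collinear with `p`, if their images lie in `λ^H` -/
theorem full_of [Finite G] (s : Sec T V z m p q p₁ π JJ)
    (h : ∀ e ∈ rr V p q, e ∈ ws V p → π e ≠ 0 → ∃ g : centralizer ({p} : Set G), π e = g • π p₁) :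
    ∀ e ∈ rr V p q, e ≠ 1 → e ≠ p → Col V p e := by
  intro e he he1 hep
  have hew : e ∈ ws V p := (π_rr_mem s (D := ⊤) (fun _ _ _ => AddSubgroup.mem_top _) e he).1
  obtain ⟨g, hg⟩ := h e he hew (fun h0 => by
    rcases (s.md.ker e hew).1 h0 with h1 | h1
    · exact he1 h1
    · exact hep h1)
  rw [← s.π_h g, s.md.eq_iff s.fr s.hp hew (s.fr.mem_ws_of_col (s.col_h g))] at hg
  rcases hg with hg | hg
  · rw [hg]; exact s.col_h g
  · rw [hg]; exact col_mul s.fr (s.col_h g) (s.ne_h g)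

end image

section fam

variable {M : G → Type v} [∀ x, AddCommGroup (M x)]
  [∀ x : G, DistribMulAction (centralizer ({x} : Set G)) (M x)] {π : ∀ x : G, G → M x}
  {JJ : ∀ x : G, Set (Subgroup (centralizer ({x} : Set G)))}

theorem FamK.full_trn [Finite G] (F : FamK T V z m M π JJ) (hP : Pair V m p q p₁)
    {J : Subgroup (centralizer ({p} : Set G))} (hJ : J ∈ JJ p) (hl : π p p₁ ∈ BJ (M p) J)
    (ht : Trn (M p) J) : ∀ e ∈ rr V p q, e ≠ 1 → e ≠ p → Col V p e := by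
  have s := F.sec hP
  have K := F.pk p q p₁ hP
  refine full_of s fun e he hew h0 => ?_
  have h1 : π p e ∈ BJ (M p) J :=
    RJ_le (M := M p) _ _ (π_rr_mem s (fun f hf v => sub_mem_RJ s K hJ hl hf v) e he).2
  obtain ⟨g, -, hg⟩ := ht _ hl _ h1 (s.md.pt_ne_zero s.fr hP.col hP.ne) h0
  exact ⟨g, hg.symm⟩

/-- **(4.1)** -/
theorem FamK.not_trn [Finite G] (F : FamK T V z m M π JJ) (hP : Pair V m p q p₁) (hQ : Pair V m q p q₁)
    {J : Subgroup (centralizer ({p} : Set G))} (hJ : J ∈ JJ p) (hl : π p p₁ ∈ BJ (M p) J) :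
    ¬ Trn (M p) J := by
  intro ht
  obtain ⟨g, e, e1⟩ := exists_flag2 F.fr hP.col hP.ne hQ.col hQ.ne
  have hl' : π q q₁ ∈ BJ (M q) (cm e J) := by
    rw [← e1, ← F.tr_π hP.col.left e (F.fr.mem_ws_of_col hP.col), F.mem_BJ hP.col.left e]
    exact hl
  refine not_full F.fr hP (F.full_trn hP hJ hl ht) ?_
  rw [rr_comm]
  exact F.full_trn hQ (F.eqv _ _ _ e J hJ) hl' (F.trn hP.col.left e ht)

theorem FamK.full_tyT [Finite G] (F : FamK T V z m M π JJ) (hP : Pair V m p q p₁)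
    {J : Subgroup (centralizer ({p} : Set G))} (hJ : J ∈ JJ p) (hl : π p p₁ ∈ BJ (M p) J)
    (ht : TyT V p q p₁ (π p) (JJ p) J (π p p₁)) : ∀ e ∈ rr V p q, e ≠ 1 → e ≠ p → Col V p e := by
  have s := F.sec hP
  have K := F.pk p q p₁ hP
  refine full_of s fun e he hew h0 => ⟨1, ?_⟩
  rw [one_smul]
  exact (mem_RJ_of_tyT s ht (π_rr_mem s (fun f hf v => sub_mem_RJ s K hJ hl hf v) e he).2).resolve_left h0

/-- some block lies in `Σ` -/
theorem exists_sg [Finite G] {M : Type v} [AddCommGroup M] [DistribMulAction (centralizer ({p} : Set G)) M]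
    {π : G → M} {JJ : Set (Subgroup (centralizer ({p} : Set G)))} (s : Sec T V z m p q p₁ π JJ)
    (K : PK V p q p₁ π JJ) : ∃ J ∈ JJ, Sg M (AQ V p q) J := by
  by_contra hcon
  push Not at hcon
  apply s.cr.ne
  intro w hw f hf
  refine (s.ex w hw (fun f hf => ?_) f hf).symm
  have hfc : f ∈ centralizer ({p} : Set G) := s.wq_le hf
  have h1 : ∀ v : M, (⟨f, hfc⟩ : centralizer ({p} : Set G)) • v = v := by
    intro v
    have key : v ∈ FX M (zpowers (⟨f, hfc⟩ : centralizer ({p} : Set G))) := by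
      refine s.blk.ind (fun J hJ b hb => ?_) (fun c hc => ?_) v
      · intro a ha
        have h2 : zpowers (⟨f, hfc⟩ : centralizer ({p} : Set G)) ≤ AQ V p q := by
          rw [zpowers_le]; exact hf
        exact fix_of_not_sg K hJ (hcon J hJ) (h2 ha) hb
      · intro a ha
        have h2 : zpowers (⟨f, hfc⟩ : centralizer ({p} : Set G)) ≤ AQ V p q := by
          rw [zpowers_le]; exact hf
        exact K.cen a (h2 ha) c hc
    exact key _ (mem_zpowers _)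
  have h2 := h1 (π w)
  rw [← s.md.smul _ w hw] at h2
  exact (s.md.eq_iff s.fr s.hp (conj_mem_ws_of_mem hfc hw) hw).1 h2

/-- **(4.1)** for type (T) -/
theorem FamK.not_tyT [Finite G] (F : FamK T V z m M π JJ) (hP : Pair V m p q p₁) (hQ : Pair V m q p q₁)
    {J : Subgroup (centralizer ({p} : Set G))} (hJ : J ∈ JJ p) (hl : π p p₁ ∈ BJ (M p) J) :
    ¬ TyT V p q p₁ (π p) (JJ p) J (π p p₁) := by
  intro ht
  rcases ht.small with h1 | h1
  · exact F.not_trn hP hQ hJ hl h1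
  have h2 : (ee V p q).relIndex (ws V p) = 2 := by rw [hP.ex.card, h1]
  obtain ⟨g, e, e1⟩ := exists_flag2 F.fr hP.col hP.ne hQ.col hQ.ne
  have hl' : π q q₁ ∈ BJ (M q) (cm e J) := by
    rw [← e1, ← F.tr_π hP.col.left e (F.fr.mem_ws_of_col hP.col), F.mem_BJ hP.col.left e]
    exact hl
  have hJ' : cm e J ∈ JJ q := F.eqv _ _ _ e J hJ
  have s' := F.sec hQ
  have K' := F.pk q p q₁ hQ
  obtain ⟨J₂, hJ₂, hs₂⟩ := exists_sg s' K'
  obtain rfl := eq_of_sg s' K' hJ' hl' hJ₂ hs₂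
  have hnb : ¬ Big (M q) (AQ V q p) (cm e J) := not_big s'.md h1 h2 s'.wq_le _
  obtain ⟨Y, bk⟩ := K'.bk _ hJ₂ hs₂
  rcases bk.ty with h3 | ⟨n', h3⟩ | h3
  · exact hnb h3.big
  · have hQ' : Pair V m q p (g * p₁ * g⁻¹) := by rw [e1]; exact hQ
    have h3' : TyT V q p (g * p₁ * g⁻¹) (π q) (JJ q) (cm e J) n' := by rw [e1]; exact h3
    have h4 := F.can' hP e hQ' hJ ht h3'
    rw [F.tr_π hP.col.left e (F.fr.mem_ws_of_col hP.col), e1] at h4
    rw [← h4] at h3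
    refine not_full F.fr hP (F.full_tyT hP hJ hl ht) ?_
    rw [rr_comm]
    exact F.full_tyT hQ hJ₂ hl' h3
  · exact hnb h3.big

/-! ### (4.2) -/

/-- the special points: `x ∼ p` moved by some `f ∈ W_q` with (D) -/
def XS (V : Subgroup G) (p q : G) : Set G :=
  {x | Col V x p ∧ ∃ f ∈ ws V q, f * x * f⁻¹ ≠ x ∧ ws V x ⊓ ws V (f * x * f⁻¹) ≤ ws V p}

/-- `A` moves `λ^h` : the point `p₁^h` is special (for the given `f`), or the exception of section 3 -/
theorem special_or [Finite G] {M : Type v} [AddCommGroup M] [DistribMulAction (centralizer ({p} : Set G)) M]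
    {π : G → M} {JJ : Set (Subgroup (centralizer ({p} : Set G)))} (s : Sec T V z m p q p₁ π JJ)
    {J : Subgroup (centralizer ({p} : Set G))} {Y : Set (centralizer ({p} : Set G))} (bk : BK V p q p₁ π JJ J Y)
    {h f : centralizer ({p} : Set G)} (hh : h ∈ Y) (hf : f ∈ AQ V p q) (hc : cc h f (π p₁) ≠ 0) :
    ((f : G) * (h * p₁ * (h : G)⁻¹) * (f : G)⁻¹ ≠ h * p₁ * (h : G)⁻¹ ∧
      ws V (h * p₁ * (h : G)⁻¹) ⊓ ws V (f * (h * p₁ * (h : G)⁻¹) * (f : G)⁻¹) ≤ ws V p) ∨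
      (¬ FF4 V p q p₁ π JJ J h ∧ π p₁ ∈ BJ M J ∧ ∃ g : centralizer ({p} : Set G), cc h f (π p₁) = g • π p₁) := by
  have hty : FF4 V p q p₁ π JJ J h ∨ TyS M J := by
    rcases bk.ty with h1 | ⟨n, h1⟩ | h1
    · exact Or.inl (h1.f h hh)
    · exact Or.inr h1.star
    · exact Or.inr h1.star
  rcases SecJ₀.main s bk.toSecJ₀ (bk.sub h hh) hf hc (bk.b4 h hh) hty with h1 | ⟨h1, -, h2, h3⟩
  · left
    refine ⟨fun e => hc ?_, h1⟩
    have h2 := s.π_h h
    have h3 := s.md.smul f _ (s.fr.mem_ws_of_col (s.col_h h))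
    rw [e, h2] at h3
    unfold cc
    rw [← h3, sub_self]
  · exact Or.inr ⟨h1, h2, h3⟩

/-- **(D)** if `λ ∉ BJ J`: every `f ∈ W_q` moving `BJ J` moves a special `x = p₁^h`, `h ∈ J` -/
theorem exists_special_of_not_mem [Finite G] {M : Type v} [AddCommGroup M]
    [DistribMulAction (centralizer ({p} : Set G)) M]
    {π : G → M} {JJ : Set (Subgroup (centralizer ({p} : Set G)))} (s : Sec T V z m p q p₁ π JJ)
    {J : Subgroup (centralizer ({p} : Set G))} {Y : Set (centralizer ({p} : Set G))} (bk : BK V p q p₁ π JJ J Y)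
    (hl : π p₁ ∉ BJ M J) {f : centralizer ({p} : Set G)} (hf : f ∈ AQ V p q) (hfb : ∃ b ∈ BJ M J, f • b ≠ b) :
    ∃ h ∈ J, cc h f (π p₁) ≠ 0 ∧ (f : G) * (h * p₁ * (h : G)⁻¹) * (f : G)⁻¹ ≠ h * p₁ * (h : G)⁻¹ ∧
      ws V (h * p₁ * (h : G)⁻¹) ⊓ ws V (f * (h * p₁ * (h : G)⁻¹) * (f : G)⁻¹) ≤ ws V p := by
  obtain ⟨f', hf', hff'⟩ := bk.act f hf
  obtain ⟨h, hh, hc⟩ := bk.hit f' hf' (by
    obtain ⟨b, hb, hne⟩ := hfb
    exact ⟨b, hb, by rwa [← hff' b hb]⟩)
  have key : ∀ a ∈ AQ V p q, cc h a (π p₁) = a • (h • π p₁ - π p₁) - (h • π p₁ - π p₁) := by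
    intro a ha
    unfold cc
    rw [smul_sub, s.fix_lam ha]
    abel
  have hc' : cc h f (π p₁) ≠ 0 := by
    rwa [key f hf, hff' _ (sub_mem_BJ (bk.sub h hh) _), ← key f' hf'.1]
  rcases special_or s bk hh hf hc' with h1 | ⟨-, h1, -⟩
  · exact ⟨h, bk.sub h hh, hc', h1⟩
  · exact absurd h1 hl

/-- **(4.2)**, in the form needed with LEMMA M+ : every pair has a special point. -/
theorem FamK.exists_special [Finite G] (F : FamK T V z m M π JJ) (hP : Pair V m p q p₁) :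
    ∃ x, x ∈ XS V p q := by
  obtain ⟨q₁, hQ⟩ := hP.swap F.fr
  have s := F.sec hP
  have K := F.pk p q p₁ hP
  obtain ⟨J, hJ, hs⟩ := exists_sg s K
  obtain ⟨Y, bk⟩ := K.bk J hJ hs
  obtain ⟨a, ha, hab⟩ := id hs
  obtain ⟨h, hh, hc⟩ := bk.hit a ha hab
  rcases special_or s bk hh ha.1 hc with h1 | ⟨hnF, hl, g, hg⟩
  · exact ⟨_, (s.col_h h).symm, a, ha.1, h1⟩
  rcases bk.ty with h1 | ⟨n, h1⟩ | h1
  · exact absurd (h1.f h hh) hnF
  · exfalso
    -- `c = n`, `λ = n`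
    have hcn : cc h a (π p p₁) = n := by
      have h2 := sub_mem_RJ s K hJ hl ha.1 (h • π p p₁)
      exact (mem_RJ_of_tyT s h1 h2).resolve_left hc
    have hz : π p p₁ - n ∈ CC (M p) (JJ p) := s.blk.fixed hJ (sub_mem hl h1.n_mem) h1.comp
    by_cases hz0 : π p p₁ - n = 0
    · have h2 := sub_eq_zero.1 hz0
      rw [← h2] at h1
      exact F.not_tyT hP hQ hJ hl h1
    · refine h1.orb _ (sub_mem hl h1.n_mem) hz hz0 g⁻¹ ?_
      rw [add_sub_cancel, inv_smul_eq_iff, ← hg, hcn]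
  · rcases h1.alt with h2 | ⟨-, h2⟩
    · exact absurd h2 (F.not_trn hP hQ hJ hl)
    · obtain ⟨k, hk, b, hb, hc0, hcg⟩ := h2 hl
      rcases special_or s bk hk hb.1 hc0 with h3 | ⟨-, -, g', hg'⟩
      · exact ⟨_, (s.col_h k).symm, b, hb.1, h3⟩
      · exact absurd hg' (hcg g')

/-- **A goal pair exists** (sections 1, 3-5). -/
theorem FamK.exists_goal [Finite G] (F : FamK T V z m M π JJ)
    (hNO : LemmaM.NoOver (NO3S.TwoFar.inc (V := V)) NO3S.TwoFar.RR NO3S.TwoFar.WS NO3S.TwoFar.VL)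
    (hex : ∃ p q, Cr V (m + 3) p q) : ∃ p x q, SecOne.Goal V (m + 3) p x q := by
  refine MPlus.exists_goal_one F.fr (by omega) hNO (fun hE hE' p q hc => ?_) hex
  obtain ⟨r, g, h1, h2, h3, h4, h5, h6, -⟩ := hc.symm.last F.fr
  obtain ⟨x, hx⟩ := F.exists_special (p := p) (q := q) (p₁ := r)
    ⟨hc, Col.of_mem h3 h2 h5 h4, h6, h1.symm, hE p q hc, hE' p q hc, hE' q p hc.symm⟩
  exact ⟨x, hx⟩

end fam

end Cfsg.Agent.Omega.NOThree.TF
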