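import Cfsg.Agent.Omega.NOThree.TF.Md

/-!
# TwoFar, text #16267, section 3: (D) for special `x`

`p`, `q` a critical pair at distance `m + 3`, `p₁` the first point of the path, `λ = π p₁`, `A = W_q` as a subgroup of
`H = C(p)`, `JJ` the blocks of `M = M_p`.

* `OJ A J λ` : the group generated by the `A_J^c`, `c ∈ C_J(λ)`, `A_J = A ∩ J`;
* `Sec` : the hypotheses on the pair, `SecJ` : the hypotheses on the block `J` with `A_J ≠ 1` ((b2), (b4));
* `SecJ.main` : for `x = p₁^h`, `h ∈ J`, `f ∈ W_q` with `c = [λ^h, f] ≠ 0`: `W_x ∩ W_{x^f} ≤ W_p`, or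
  `λ ∈ BJ J` and `c ∈ λ^H`.  The type of `J` : either `TyF` (the `[c, O_J^h]` do not lie in two cosets of `CC`), and
  then `W_x ∩ W_{x^f} ≤ W_p`, or (*) every element of `N_H(J)` acts on `BJ J` as an element of `J`.
-/

set_option autoImplicit false
set_option linter.unusedSectionVars false

namespace Cfsg.Agent.Omega.NOThree.TF

open Subgroup Cfsg Cfsg.Agent.ZN Cfsg.Agent.MinSimple.Geo Cfsg.Agent.Omega.CaseL Cfsg.Agent.Omega.NO3S.TwoOne
open Cfsg.Agent.Omega.NO3S.Pt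
open Cfsg.Agent.Omega.NO3S.Dual (nn mem_nn DW)
open Cfsg.Agent.ZN.Block (conj_mem_of_normalizer conj_mem_of_normalizer' le_normalizer_of_forall
  mem_normalizer_of)

universe u v

section defs

variable {H : Type u} [Group H] {M : Type v} [AddCommGroup M] [DistribMulAction H M]

/-- `O_J` : generated by the conjugates of `A_J = A ∩ J` under `C_J(λ)` -/
def OJ (A J : Subgroup H) (lam : M) : Subgroup H :=
  closure {y | ∃ a ∈ A ⊓ J, ∃ c ∈ J, c • lam = lam ∧ y = c * a * c⁻¹}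

theorem OJ_le (A J : Subgroup H) (lam : M) : OJ A J lam ≤ J := by
  unfold OJ
  rw [closure_le]
  rintro _ ⟨a, ha, c, hc, -, rfl⟩
  exact mul_mem (mul_mem hc ha.2) (inv_mem hc)

theorem OJ_fix {A J : Subgroup H} {lam : M} (hA : ∀ a ∈ A, a • lam = lam) {o : H} (ho : o ∈ OJ A J lam) :
    o • lam = lam := by
  have h1 : OJ A J lam ≤ MulAction.stabilizer H lam := by
    unfold OJ
    rw [closure_le]
    rintro _ ⟨a, ha, c, -, hcl, rfl⟩
    change (c * a * c⁻¹) • lam = lam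
    have e : c⁻¹ • lam = lam := by rw [inv_smul_eq_iff, hcl]
    rw [mul_smul, mul_smul, e, hA a ha.1, hcl]
  exact h1 ho

end defs

variable {G : Type u} [Group G] {M : Type v} [AddCommGroup M]

/-- the commutators `c = [λ^h, a]`, in the order used here -/
def cc {H : Type u} [Group H] [DistribMulAction H M] (h a : H) (lam : M) : M := a • h • lam - h • lam

/-- the pair `(p, q)` and the module `M_p` -/
structure Sec (T V : Subgroup G) (z : G) (m : ℕ) (p q p₁ : G) [DistribMulAction (centralizer ({p} : Set G)) M]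
    (π : G → M) (JJ : Set (Subgroup (centralizer ({p} : Set G)))) : Prop where
  fr : Fr T V z
  cr : Cr V (m + 3) p q
  col : Col V p p₁
  ne : p₁ ≠ p
  pth : Pth V (m + 2) p₁ q
  md : Md V p π
  blk : Blk M JJ
  /-- exactness: `{w ∈ W_p : [w, W_q] ≤ p} = C_{W_p}(W_q)` -/
  ex : ∀ w ∈ ws V p, (∀ f ∈ ws V q, f * w * f⁻¹ = w ∨ f * w * f⁻¹ = p * w) → ∀ f ∈ ws V q, f * w = w * f
  /-- `A` centralises `CC` (from `A = ∏ A_J`) -/
  cen : ∀ f : centralizer ({p} : Set G), (f : G) ∈ ws V q → ∀ c ∈ CC M JJ, f • c = c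
  /-- (b3) -/
  nn_le : ∀ w ∈ nn (ws V p) (kq V p), π w ∈ CC M JJ

/-- the block `J` with `A_J ≠ 1`; `A = W_q`; without (b4) -/
structure SecJ₀ (V : Subgroup G) (p q p₁ : G) [DistribMulAction (centralizer ({p} : Set G)) M]
    (π : G → M) (JJ : Set (Subgroup (centralizer ({p} : Set G)))) (J : Subgroup (centralizer ({p} : Set G))) :
    Prop where
  mem : J ∈ JJ
  /-- the `J`-component of an element of `A` -/
  act : ∀ f ∈ (ws V q).subgroupOf (centralizer ({p} : Set G)),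
    ∃ f' ∈ (ws V q).subgroupOf (centralizer ({p} : Set G)) ⊓ J, ∀ b ∈ BJ M J, f • b = f' • b
  /-- `J = ⟨A_J^J⟩` (modulo the kernel) -/
  gen : ∀ g ∈ J, ∃ y ∈ closure {y | ∃ a ∈ (ws V q).subgroupOf (centralizer ({p} : Set G)) ⊓ J, ∃ j ∈ J,
    y = j * a * j⁻¹}, ∀ v : M, g • v = y • v
  /-- `v_J ≠ 0` -/
  moves : ∃ g ∈ J, g • π p₁ ≠ π p₁

/-- (b4) for one `h ∈ J` -/
def B4 (V : Subgroup G) (p q p₁ : G) [DistribMulAction (centralizer ({p} : Set G)) M]
    (π : G → M) (JJ : Set (Subgroup (centralizer ({p} : Set G)))) (J : Subgroup (centralizer ({p} : Set G)))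
    (h : centralizer ({p} : Set G)) : Prop :=
  ∀ a ∈ (ws V q).subgroupOf (centralizer ({p} : Set G)) ⊓ J, cc h a (π p₁) ≠ 0 →
    cc h a (π p₁) ∉ CC M JJ ∧ ∃ o ∈ OJ ((ws V q).subgroupOf (centralizer ({p} : Set G))) J (π p₁),
      (h * o * h⁻¹) • cc h a (π p₁) - cc h a (π p₁) ∉ CC M JJ

/-- type (F) in the form used, for one `h ∈ J` : the `[c, O_J^h]` do not lie in two cosets of `CC` -/
def FF4 (V : Subgroup G) (p q p₁ : G) [DistribMulAction (centralizer ({p} : Set G)) M]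
    (π : G → M) (JJ : Set (Subgroup (centralizer ({p} : Set G)))) (J : Subgroup (centralizer ({p} : Set G)))
    (h : centralizer ({p} : Set G)) : Prop :=
  ∀ a ∈ (ws V q).subgroupOf (centralizer ({p} : Set G)) ⊓ J, cc h a (π p₁) ≠ 0 → ∀ v : M,
    ∃ o ∈ OJ ((ws V q).subgroupOf (centralizer ({p} : Set G))) J (π p₁),
      (h * o * h⁻¹) • cc h a (π p₁) - cc h a (π p₁) ∉ CC M JJ ∧
      (h * o * h⁻¹) • cc h a (π p₁) - cc h a (π p₁) - v ∉ CC M JJ

/-- the block `J` with `A_J ≠ 1`; `A = W_q` -/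
structure SecJ (V : Subgroup G) (p q p₁ : G) [DistribMulAction (centralizer ({p} : Set G)) M]
    (π : G → M) (JJ : Set (Subgroup (centralizer ({p} : Set G)))) (J : Subgroup (centralizer ({p} : Set G))) :
    Prop extends SecJ₀ V p q p₁ π JJ J where
  /-- (b4) -/
  b4 : ∀ h ∈ J, B4 V p q p₁ π JJ J h

/-- type (F) in the form used: the `[c, O_J^h]` do not lie in two cosets of `CC` -/
def TyF (V : Subgroup G) (p q p₁ : G) [DistribMulAction (centralizer ({p} : Set G)) M]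
    (π : G → M) (JJ : Set (Subgroup (centralizer ({p} : Set G)))) (J : Subgroup (centralizer ({p} : Set G))) :
    Prop := ∀ h ∈ J, FF4 V p q p₁ π JJ J h

/-- (*) -/
def TyS {H : Type u} [Group H] (M : Type v) [AddCommGroup M] [DistribMulAction H M] (J : Subgroup H) : Prop :=
  ∀ g : H, cj g J = J → ∃ y ∈ J, ∀ b ∈ BJ M J, g • b = y • b

/-! ### the pair -/

namespace Sec

variable {T V : Subgroup G} {z : G} {m : ℕ} {p q p₁ : G} [DistribMulAction (centralizer ({p} : Set G)) M]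
  {π : G → M} {JJ : Set (Subgroup (centralizer ({p} : Set G)))} (s : Sec T V z m p q p₁ π JJ)
include s

theorem hp : Col V p p := s.col.left

theorem hq : Col V q q := s.cr.path.right

theorem wq_le [Finite G] : ws V q ≤ centralizer ({p} : Set G) := s.cr.symm.cent s.fr

/-- `W_q` centralises `W_{p₁}` -/
theorem com₁ : NO3S.Pt.Com V p₁ q := s.cr.min (m + 2) (by omega) _ _ s.pth

theorem p₁_mem : p₁ ∈ ws V p := s.fr.mem_ws_of_col s.col

theorem p₁_mem' : p₁ ∈ ws V p₁ := s.fr.mem_ws_self s.col.right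

/-- `A` fixes `λ` -/
theorem fix_lam {f : centralizer ({p} : Set G)} (hf : (f : G) ∈ ws V q) : f • π p₁ = π p₁ := by
  rw [← s.md.smul f p₁ s.p₁_mem]
  congr 1
  exact NO3S.Dual.conj_eq_of_comm (s.com₁ p₁ s.p₁_mem' f hf).symm

/-- every element of `O_J^h` is induced by an element centralising `W_x`, `x = p₁^h` -/
theorem lift_OJ (J : Subgroup (centralizer ({p} : Set G))) (h : centralizer ({p} : Set G))
    {o : centralizer ({p} : Set G)} (ho : o ∈ OJ ((ws V q).subgroupOf (centralizer ({p} : Set G))) J (π p₁)) :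
    ∃ g : centralizer ({p} : Set G), (g : G) ∈ centralizer (ws V (h * p₁ * (h : G)⁻¹) : Set G) ∧
      ∀ v : M, g • v = (h * o * h⁻¹) • v := by
  -- first `h = 1`
  have key : ∃ g : centralizer ({p} : Set G), (g : G) ∈ centralizer (ws V p₁ : Set G) ∧
      ∀ v : M, g • v = o • v := by
    unfold OJ at ho
    induction ho using Subgroup.closure_induction with
    | mem x hx =>
      obtain ⟨a, ⟨ha, haJ⟩, c, -, hcl, rfl⟩ := hx
      obtain ⟨k, hk, hkc⟩ := s.md.fix_lift s.fr s.col s.ne hcl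
      refine ⟨k * c * a * (k * c)⁻¹, ?_, fun v => ?_⟩
      · have h1 : (a : G) ∈ centralizer (ws V p₁ : Set G) := by
          rw [mem_centralizer_iff]
          intro b hb
          exact s.com₁ b hb a ha
        have h2 : ((k * c : centralizer ({p} : Set G)) : G) ∈ centralizer ({p₁} : Set G) := by
          rw [mem_centralizer_singleton_iff]
          exact NO3S.Dual.comm_of_conj_eq hkc
        exact conj_mem_of_normalizer (normalizer_le_normalizer_centralizer _)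
          (centralizer_le_normalizer_ws V p₁ h2) h1
      · have hk' := (s.md.mem_kq_iff s.fr s.hp k).1 hk
        have hk'' : ∀ v : M, k⁻¹ • v = v := fun v => by rw [inv_smul_eq_iff, hk']
        rw [mul_inv_rev]
        simp only [mul_smul, hk', hk'']
    | one => exact ⟨1, one_mem _, fun v => rfl⟩
    | mul x y _ _ hx hy =>
      obtain ⟨g, hg, hg'⟩ := hx
      obtain ⟨k, hk, hk'⟩ := hy
      exact ⟨g * k, mul_mem hg hk, fun v => by rw [mul_smul, mul_smul, hk', hg']⟩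
    | inv x _ hx =>
      obtain ⟨g, hg, hg'⟩ := hx
      exact ⟨g⁻¹, inv_mem hg, fun v => by rw [inv_smul_eq_iff, hg', smul_inv_smul]⟩
  obtain ⟨g, hg, hg'⟩ := key
  refine ⟨h * g * h⁻¹, ?_, fun v => ?_⟩
  · rw [← cj_ws, mem_centralizer_iff]
    intro b hb
    rw [SetLike.mem_coe, mem_cj] at hb
    have := mem_centralizer_iff.1 hg _ hb
    change b * ((h : G) * g * (h : G)⁻¹) = (h : G) * g * (h : G)⁻¹ * b
    calc b * ((h : G) * g * (h : G)⁻¹) = h * (((h : G)⁻¹ * b * h) * g) * (h : G)⁻¹ := by group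
      _ = h * (g * ((h : G)⁻¹ * b * h)) * (h : G)⁻¹ := by rw [this]
      _ = (h : G) * g * (h : G)⁻¹ * b := by group
  · simp only [mul_smul, hg']

/-- **(3.1)** -/
theorem span [Finite G] {x x' : G} (hx : Col V p x) (hx' : Col V p x') (hxp : x ≠ p) (hxp' : x' ≠ p)
    (hbad : ¬ ws V x ⊓ ws V x' ≤ ws V p) {g : G} (hg : g ∈ centralizer (ws V x : Set G)) :
    ∃ a b w, (a = 1 ∨ a = x) ∧ (b = 1 ∨ b = x') ∧ w ∈ nn (ws V p) (kq V p) ∧ g * x' * g⁻¹ = a * b * w := by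
  have hxw := s.fr.mem_ws_of_col hx
  have hxw' := s.fr.mem_ws_of_col hx'
  have h1 := ((s.fr.lemD hx hx' hxp hxp').resolve_left hbad g (mem_sup_left hg)).2
  have hcl : closure {x, x'} = zpowers x ⊔ zpowers x' := by
    rw [zpowers_eq_closure, zpowers_eq_closure, ← Subgroup.closure_union]
    rfl
  have hzx : zpowers x ≤ ws V p := by rwa [zpowers_le]
  have hzx' : zpowers x' ≤ ws V p := by rwa [zpowers_le]
  rw [hcl] at h1
  obtain ⟨c, hc, w, hw, e⟩ := NO3S.Dual.mem_sup_of_comm (s.fr.ws_comm s.hp) (sup_le hzx hzx')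
    (inf_le_left : nn (ws V p) (kq V p) ≤ ws V p) h1
  obtain ⟨a, ha, b, hb, rfl⟩ := NO3S.Dual.mem_sup_of_comm (s.fr.ws_comm s.hp) hzx hzx' hc
  exact ⟨a, b, w, (mem_zpowers_iff_of_mul_self (s.fr.ws_sq s.hp x hxw)).1 ha,
    (mem_zpowers_iff_of_mul_self (s.fr.ws_sq s.hp x' hxw')).1 hb, hw, e⟩

/-- the point `p₁^h` -/
theorem col_h (h : centralizer ({p} : Set G)) : Col V p (h * p₁ * (h : G)⁻¹) := by
  have h1 := s.col.conj (h : G)
  have e : (h : G) * p * (h : G)⁻¹ = p := NO3S.Dual.conj_eq_of_comm (mem_centralizer_singleton_iff.1 h.2)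
  rwa [e] at h1

theorem ne_h (h : centralizer ({p} : Set G)) : (h : G) * p₁ * (h : G)⁻¹ ≠ p := by
  intro e
  apply s.ne
  have e1 : (h : G) * p = p * h := mem_centralizer_singleton_iff.1 h.2
  calc p₁ = (h : G)⁻¹ * (h * p₁ * (h : G)⁻¹) * h := by group
    _ = (h : G)⁻¹ * (p * h) := by rw [e]; group
    _ = p := by rw [← e1]; group

theorem π_h (h : centralizer ({p} : Set G)) : π (h * p₁ * (h : G)⁻¹) = h • π p₁ := s.md.smul h p₁ s.p₁_mem

theorem lam_not_mem {J : Subgroup (centralizer ({p} : Set G))} (hJ : J ∈ JJ)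
    (hm : ∃ g ∈ J, g • π p₁ ≠ π p₁) : π p₁ ∉ CC M JJ := by
  obtain ⟨g, hg, hne⟩ := hm
  exact fun h => hne (h J hJ g hg)

end Sec

/-! ### the block `J` -/

namespace SecJ₀

variable {T V : Subgroup G} {z : G} {m : ℕ} {p q p₁ : G} [DistribMulAction (centralizer ({p} : Set G)) M]
  {π : G → M} {JJ : Set (Subgroup (centralizer ({p} : Set G)))} {J : Subgroup (centralizer ({p} : Set G))}

/-- `c = [λ^h, f]` only depends on the `J`-component of `f` -/
theorem exists_comp (s : Sec T V z m p q p₁ π JJ) (j : SecJ₀ V p q p₁ π JJ J)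
    {h f : centralizer ({p} : Set G)} (hh : h ∈ J) (hf : (f : G) ∈ ws V q) :
    ∃ f' : centralizer ({p} : Set G), (f' : G) ∈ ws V q ∧ f' ∈ J ∧ (∀ b ∈ BJ M J, f • b = f' • b) ∧
      cc h f (π p₁) = cc h f' (π p₁) := by
  obtain ⟨f', ⟨hf', hf'J⟩, hact⟩ := j.act f hf
  refine ⟨f', hf', hf'J, hact, ?_⟩
  have key : ∀ a : centralizer ({p} : Set G), (a : G) ∈ ws V q →
      cc h a (π p₁) = a • (h • π p₁ - π p₁) - (h • π p₁ - π p₁) := by
    intro a ha
    unfold cc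
    rw [smul_sub, s.fix_lam ha]
    abel
  rw [key f hf, key f' hf', hact _ (sub_mem_BJ hh _)]

theorem cc_mem {h f : centralizer ({p} : Set G)} (hf : f ∈ J) :
    cc h f (π p₁) ∈ BJ M J := sub_mem_BJ hf _

/-- the images of `x = p₁^h` and of its conjugates under `O_J^h` -/
theorem step [Finite G] (s : Sec T V z m p q p₁ π JJ) (j : SecJ₀ V p q p₁ π JJ J)
    {h f : centralizer ({p} : Set G)} (hh : h ∈ J) (hf : (f : G) ∈ ws V q) (hc : cc h f (π p₁) ≠ 0)
    (hb4 : B4 V p q p₁ π JJ J h)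
    (hbad : ¬ ws V (h * p₁ * (h : G)⁻¹) ⊓ ws V (((f * h : centralizer ({p} : Set G)) : G) * p₁ *
      ((f * h : centralizer ({p} : Set G)) : G)⁻¹) ≤ ws V p)
    {o : centralizer ({p} : Set G)} (ho : o ∈ OJ ((ws V q).subgroupOf (centralizer ({p} : Set G))) J (π p₁)) :
    (h * o * h⁻¹) • cc h f (π p₁) - cc h f (π p₁) ∈ CC M JJ ∨
    ∃ g : centralizer ({p} : Set G), (g : G) ∈ centralizer (ws V (h * p₁ * (h : G)⁻¹) : Set G) ∧
      (∀ v : M, g • v = (h * o * h⁻¹) • v) ∧ ∃ w ∈ nn (ws V p) (kq V p),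
      (g : G) * (((f * h : centralizer ({p} : Set G)) : G) * p₁ * ((f * h : centralizer ({p} : Set G)) : G)⁻¹) *
        (g : G)⁻¹ = (h * p₁ * (h : G)⁻¹) * (((f * h : centralizer ({p} : Set G)) : G) * p₁ *
          ((f * h : centralizer ({p} : Set G)) : G)⁻¹) * w ∧
      (h * o * h⁻¹) • cc h f (π p₁) = h • π p₁ + cc h f (π p₁) + π w := by
  obtain ⟨g, hg, hgv⟩ := s.lift_OJ J h ho
  set x : G := h * p₁ * (h : G)⁻¹ with hx
  set x' : G := ((f * h : centralizer ({p} : Set G)) : G) * p₁ * ((f * h : centralizer ({p} : Set G)) : G)⁻¹ with hx'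
  set c := cc h f (π p₁) with hcdef
  have hxc : Col V p x := s.col_h h
  have hxc' : Col V p x' := s.col_h (f * h)
  have hxw := s.fr.mem_ws_of_col hxc
  have hxw' := s.fr.mem_ws_of_col hxc'
  have hπx : π x = h • π p₁ := s.π_h h
  have hπx' : π x' = h • π p₁ + c := by
    rw [s.π_h (f * h), mul_smul, hcdef]
    unfold cc
    abel
  obtain ⟨a, b, w, ha, hb, hw, e⟩ := s.span hxc hxc' (s.ne_h h) (s.ne_h (f * h)) hbad hg
  have hww := (mem_nn.1 hw).1
  have hwC := s.nn_le w hw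
  have h1 : π (g * x' * (g : G)⁻¹) = h • π p₁ + (h * o * h⁻¹) • c := by
    rw [s.md.smul g x' hxw', hgv, hπx', smul_add]
    congr 1
    rw [mul_smul, inv_smul_smul, mul_smul, OJ_fix (fun a ha => s.fix_lam ha) ho]
  have h1' : π (g * x' * (g : G)⁻¹) = (g * (f * h)) • π p₁ := by
    rw [s.md.smul g x' hxw', s.π_h (f * h)]
    simp only [mul_smul]
  have hlam := s.lam_not_mem j.mem j.moves
  obtain ⟨f', hf', hf'J, -, hcf⟩ := j.exists_comp s hh hf
  have hcC : c ∉ CC M JJ := by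
    have := (hb4 f' ⟨hf', hf'J⟩ (by rwa [← hcf])).1
    rwa [← hcf] at this
  have two := s.md.two s.fr s.hp
  rcases ha with rfl | rfl <;> rcases hb with rfl | rfl
  · exfalso
    rw [one_mul, one_mul] at e
    rw [e] at h1'
    rw [h1'] at hwC
    exact hlam ((s.blk.smul_CC_iff _).1 hwC)
  · left
    rw [one_mul] at e
    rw [e, s.md.map_mul _ hxw' _ hww, hπx', add_assoc] at h1
    have h2 := add_left_cancel h1
    rw [← h2, add_sub_cancel_left]
    exact hwC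
  · exfalso
    rw [mul_one] at e
    rw [e, s.md.map_mul _ hxw _ hww, hπx] at h1
    have h2 := add_left_cancel h1
    rw [h2] at hwC
    exact hcC ((s.blk.smul_CC_iff _).1 hwC)
  · right
    refine ⟨g, hg, hgv, w, hw, e, ?_⟩
    rw [e, s.md.map_mul _ (mul_mem hxw hxw') _ hww, s.md.map_mul _ hxw _ hxw', hπx, hπx', add_assoc] at h1
    exact (add_left_cancel h1).symm

/-- the Sylow group `T` on `BJ J + CC ∋ λ` -/
theorem T_fix [Finite G] (s : Sec T V z m p q p₁ π JJ) (j : SecJ₀ V p q p₁ π JJ J) (hS : TyS M J)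
    {T' : Subgroup G} (hT : ¬ 2 ∣ T'.relIndex (centralizer ({p} : Set G)))
    (hTp : ∀ t ∈ T', t * p₁ * t⁻¹ = p₁ ∨ t * p₁ * t⁻¹ = p * p₁) {e y₀ : M} (he : e ∈ BJ M J) (hy₀ : y₀ ∈ CC M JJ)
    (hlam : π p₁ = e + y₀) {t : centralizer ({p} : Set G)} (ht : (t : G) ∈ T') :
    ∃ y ∈ J, (∀ b ∈ BJ M J, t • b = y • b) ∧ t • y₀ = y₀ ∧ ∀ ν ∈ CC M JJ, ν + y₀ ∈ BJ M J → t • ν = ν := by
  have hfix : ∀ t : centralizer ({p} : Set G), (t : G) ∈ T' → t • π p₁ = π p₁ := by
    intro t ht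
    rw [← s.md.smul t p₁ s.p₁_mem, s.md.eq_iff s.fr s.hp (conj_mem_ws_of_mem t.2 s.p₁_mem) s.p₁_mem]
    exact hTp t ht
  have hl : π p₁ ∈ BJ M J ⊔ CC M JJ := by
    rw [hlam]
    exact AddSubgroup.mem_sup.2 ⟨e, he, y₀, hy₀, rfl⟩
  have hcj : cj t J = J := s.blk.cj_eq j.mem hl (by rwa [hfix t ht]) (s.lam_not_mem j.mem j.moves)
  obtain ⟨y, hy, hyt⟩ := hS t hcj
  have h1 : y • e - e = y₀ - t • y₀ := by
    have h2 := hfix t ht
    rw [hlam, smul_add, hyt e he] at h2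
    rw [sub_eq_sub_iff_add_eq_add, h2, add_comm]
  have h2 : y • π p₁ - π p₁ = y • e - e := by
    rw [hlam, smul_add, Blk.fix_CC j.mem hy hy₀]
    abel
  have h3 : y • π p₁ = π p₁ := by
    refine s.blk.stab (s.md.two s.fr s.hp) (T := T'.subgroupOf (centralizer ({p} : Set G))) hT
      (fun t ht => hfix t ht) j.mem hy ?_
    rw [h2, h1]
    exact sub_mem hy₀ (s.blk.smul_CC t hy₀)
  have h4 : t • y₀ = y₀ := by
    rw [h3, sub_self] at h2
    rw [← h2] at h1
    exact (sub_eq_zero.1 h1.symm).symm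
  refine ⟨y, hy, hyt, h4, fun ν hν hνb => ?_⟩
  have h5 : t • (ν + y₀) = ν + y₀ := by
    rw [hyt _ hνb]
    exact Blk.fix_CC j.mem hy (add_mem hν hy₀)
  rw [smul_add, h4] at h5
  exact add_right_cancel h5

/-- `J = ⟨A_J^J⟩` is induced by elements which commute with every `w ∈ W_p` whose image lies in `CC` -/
theorem gen_comm [Finite G] (s : Sec T V z m p q p₁ π JJ) (j : SecJ₀ V p q p₁ π JJ J) {w : G} (hw : w ∈ ws V p)
    (hwC : π w ∈ CC M JJ) {g : centralizer ({p} : Set G)} (hg : g ∈ J) :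
    ∃ y : centralizer ({p} : Set G), (∀ v : M, g • v = y • v) ∧ (y : G) * w = w * y := by
  obtain ⟨y, hy, hgy⟩ := j.gen g hg
  refine ⟨y, hgy, ?_⟩
  -- `W_q` centralises `w`
  have h1 : ∀ f ∈ ws V q, f * w = w * f := by
    refine s.ex w hw fun f hf => ?_
    have hfc : f ∈ centralizer ({p} : Set G) := s.wq_le hf
    have h2 := s.cen ⟨f, hfc⟩ hf _ hwC
    rw [← s.md.smul ⟨f, hfc⟩ w hw] at h2
    exact (s.md.eq_iff s.fr s.hp (conj_mem_ws_of_mem hfc hw) hw).1 h2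
  have key : closure {y | ∃ a ∈ (ws V q).subgroupOf (centralizer ({p} : Set G)) ⊓ J, ∃ i ∈ J, y = i * a * i⁻¹} ≤
      (centralizer ({w} : Set G)).subgroupOf (centralizer ({p} : Set G)) := by
    rw [closure_le]
    rintro _ ⟨a, ⟨ha, -⟩, i, hi, rfl⟩
    change ((i * a * i⁻¹ : centralizer ({p} : Set G)) : G) ∈ centralizer ({w} : Set G)
    rw [mem_centralizer_singleton_iff]
    have ha' : (a : G) ∈ ws V q := ha
    have hap : (a : G) * p = p * a := mem_centralizer_singleton_iff.1 a.2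
    have h3 : (i : G)⁻¹ * w * i = w ∨ (i : G)⁻¹ * w * i = p * w := by
      have h4 : (i⁻¹ : centralizer ({p} : Set G)) • π w = π w := Blk.fix_CC j.mem (inv_mem hi) hwC
      rw [← s.md.smul i⁻¹ w hw] at h4
      have h5 := (s.md.eq_iff s.fr s.hp (conj_mem_ws_of_mem (i⁻¹).2 hw) hw).1 h4
      simpa using h5
    have h6 : (a : G) * ((i : G)⁻¹ * w * i) = ((i : G)⁻¹ * w * i) * a := by
      rcases h3 with e | e
      · rw [e]; exact h1 a ha'
      · rw [e, ← mul_assoc, hap, mul_assoc, h1 a ha', mul_assoc]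
    change (i : G) * a * (i : G)⁻¹ * w = w * (i * a * (i : G)⁻¹)
    calc (i : G) * a * (i : G)⁻¹ * w = i * (a * ((i : G)⁻¹ * w * i)) * (i : G)⁻¹ := by group
      _ = w * (i * a * (i : G)⁻¹) := by rw [h6]; group
  exact mem_centralizer_singleton_iff.1 (key hy)

/-- **(D) for special `x`** (3.2), (3.3): `x = p₁^h`, `h ∈ J`, `f ∈ W_q`, `c = [λ^h, f] ≠ 0`; `W_x ∩ W_{x^f} ≤ W_p`, or
`J` is not of type (F), (*) holds, `λ ∈ BJ J` and `c ∈ λ^H`.  (b4) and (F) are used for this `h` only. -/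
theorem main [Finite G] (s : Sec T V z m p q p₁ π JJ) (j : SecJ₀ V p q p₁ π JJ J)
    {h f : centralizer ({p} : Set G)} (hh : h ∈ J) (hf : (f : G) ∈ ws V q) (hc : cc h f (π p₁) ≠ 0)
    (hb4 : B4 V p q p₁ π JJ J h) (hty : FF4 V p q p₁ π JJ J h ∨ TyS M J) :
    ws V (h * p₁ * (h : G)⁻¹) ⊓ ws V (f * (h * p₁ * (h : G)⁻¹) * (f : G)⁻¹) ≤ ws V p ∨
      (¬ FF4 V p q p₁ π JJ J h ∧ TyS M J ∧ π p₁ ∈ BJ M J ∧
        ∃ g : centralizer ({p} : Set G), cc h f (π p₁) = g • π p₁) := by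
  have ex' : (f : G) * (h * p₁ * (h : G)⁻¹) * (f : G)⁻¹ = ((f * h : centralizer ({p} : Set G)) : G) * p₁ *
      ((f * h : centralizer ({p} : Set G)) : G)⁻¹ := by
    change _ = (f : G) * h * p₁ * ((f : G) * h)⁻¹
    group
  rw [ex']
  by_cases hbad : ws V (h * p₁ * (h : G)⁻¹) ⊓ ws V (((f * h : centralizer ({p} : Set G)) : G) * p₁ *
      ((f * h : centralizer ({p} : Set G)) : G)⁻¹) ≤ ws V p
  · exact Or.inl hbad
  have hstep := fun (o : centralizer ({p} : Set G)) ho => step s j hh hf hc hb4 hbad (o := o) ho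
  obtain ⟨f', hf', hf'J, hff', hcf⟩ := exists_comp s j hh hf
  have hcB : cc h f (π p₁) ∈ BJ M J := by rw [hcf]; exact cc_mem hf'J
  have hb4' := hb4 f' ⟨hf', hf'J⟩ (by rwa [← hcf])
  rw [← hcf] at hb4'
  obtain ⟨hcC, o, ho, hoC⟩ := hb4'
  right
  have hnF : ¬ FF4 V p q p₁ π JJ J h := by
    intro hF
    obtain ⟨o', ho', h1, h2⟩ := hF f' ⟨hf', hf'J⟩ (by rwa [← hcf]) (h • π p₁)
    rw [← hcf] at h1 h2
    rcases hstep o' ho' with h3 | ⟨g, -, -, w, hw, -, h3⟩
    · exact h1 h3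
    · apply h2
      rw [h3]
      have e : h • π p₁ + cc h f (π p₁) + π w - cc h f (π p₁) - h • π p₁ = π w := by abel
      rw [e]
      exact s.nn_le w hw
  have hS := hty.resolve_left hnF
  refine ⟨hnF, hS, ?_⟩
  obtain ⟨g, hg, hgv, w, hw, hgx, hoc⟩ := (hstep o ho).resolve_left hoC
  have two := s.md.two s.fr s.hp
  have hlamC := s.lam_not_mem j.mem j.moves
  have hww := (mem_nn.1 hw).1
  have hwC := s.nn_le w hw
  set x : G := h * p₁ * (h : G)⁻¹ with hx
  set x' : G := ((f * h : centralizer ({p} : Set G)) : G) * p₁ * ((f * h : centralizer ({p} : Set G)) : G)⁻¹ with hx'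
  set c := cc h f (π p₁) with hcdef
  have hxc : Col V p x := s.col_h h
  have hxc' : Col V p x' := s.col_h (f * h)
  have hxw := s.fr.mem_ws_of_col hxc
  have hxw' := s.fr.mem_ws_of_col hxc'
  have hπx : π x = h • π p₁ := s.π_h h
  have hπx'' : π x' = (f * h) • π p₁ := s.π_h (f * h)
  have hπx' : π x' = h • π p₁ + c := by
    rw [hπx'', mul_smul, hcdef]
    unfold cc
    abel
  have hOJ : h * o * h⁻¹ ∈ J := mul_mem (mul_mem hh (OJ_le _ _ _ ho)) (inv_mem hh)
  -- `λ + ν ∈ BJ J`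
  have he : π p₁ + π w ∈ BJ M J := by
    have h1 : h • π p₁ + π w ∈ BJ M J := by
      have h2 := sub_mem (smul_mem_BJ hOJ hcB) hcB
      rwa [hoc, show h • π p₁ + c + π w - c = h • π p₁ + π w by abel] at h2
    have h2 := sub_mem h1 (sub_mem_BJ hh (π p₁))
    rwa [show h • π p₁ + π w - (h • π p₁ - π p₁) = π p₁ + π w by abel] at h2
  have hle : π p₁ = (π p₁ + π w) + π w := by rw [add_assoc, two, add_zero]
  have hsx : π (x * x' * w) = c + π w := by
    rw [s.md.map_mul _ (mul_mem hxw hxw') _ hww, s.md.map_mul _ hxw _ hxw', hπx, hπx', ← add_assoc, two, zero_add]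
  have hsx' : (g : G) * x' * (g : G)⁻¹ =
      ((g * (f * h) : centralizer ({p} : Set G)) : G) * p₁ * ((g * (f * h) : centralizer ({p} : Set G)) : G)⁻¹ := by
    change (g : G) * ((f * h : centralizer ({p} : Set G)) * p₁ * ((f * h : centralizer ({p} : Set G)) : G)⁻¹) *
      (g : G)⁻¹ = (g : G) * (f * h : centralizer ({p} : Set G)) * p₁ * ((g : G) * (f * h : centralizer ({p} : Set G)))⁻¹
    group
  by_cases hν : π w = 0
  · rw [hν, add_zero] at he hsx
    refine ⟨he, g * (f * h), ?_⟩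
    rw [← hsx, ← hgx, hsx', s.π_h]
  · exfalso
    apply hbad
    obtain ⟨T', hTC, -, hTi, hTp, hWT, hsoc⟩ := exists_T s.fr s.col s.ne
    set g₀ : centralizer ({p} : Set G) := g * (f * h) with hg₀
    -- an element of the Sylow group of `s` moving `w`
    obtain ⟨t, ht, htw⟩ : ∃ t ∈ T', (g₀ : G) * t * (g₀ : G)⁻¹ * w ≠ w * (g₀ * t * (g₀ : G)⁻¹) := by
      by_contra hcon
      push Not at hcon
      apply hν
      have h1 : (g₀ : G)⁻¹ * w * g₀ ∈ ws V p := by
        have := conj_mem_ws_of_mem (inv_mem g₀.2) hww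
        rwa [inv_inv] at this
      have h2 := hsoc _ h1 fun t ht => by
        have := hcon t ht
        calc t * ((g₀ : G)⁻¹ * w * g₀) = (g₀ : G)⁻¹ * ((g₀ : G) * t * (g₀ : G)⁻¹ * w) * g₀ := by group
          _ = (g₀ : G)⁻¹ * w * g₀ * t := by rw [this]; group
      have h3 : w = g₀ * ((g₀ : G)⁻¹ * w * g₀) * (g₀ : G)⁻¹ := by group
      rw [s.md.ker w hww]
      rcases h2 with e | e
      · left; rw [h3, e]; group
      · right; rw [h3, e]
        exact NO3S.Dual.conj_eq_of_comm (mem_centralizer_singleton_iff.1 g₀.2)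
    obtain ⟨y, hy, hyt, htν, -⟩ := T_fix s j hS hTi hTp he hwC hle (t := ⟨t, hTC ht⟩) ht
    set tt : centralizer ({p} : Set G) := ⟨t, hTC ht⟩ with htt
    have hj₀ : h * o * h⁻¹ * f' * h ∈ J := mul_mem (mul_mem hOJ hf'J) hh
    set j₀ := h * o * h⁻¹ * f' * h with hj₀def
    have hg₀b : ∀ b ∈ BJ M J, g₀ • b = j₀ • b := by
      intro b hb
      have h1 : h • b ∈ BJ M J := smul_mem_BJ hh hb
      rw [hg₀, hj₀def, mul_smul, mul_smul, hff' _ h1, hgv]
      simp only [mul_smul]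
    have hg₀b' : ∀ b ∈ BJ M J, g₀⁻¹ • b = j₀⁻¹ • b := by
      intro b hb
      rw [inv_smul_eq_iff, hg₀b _ (smul_mem_BJ (inv_mem hj₀) hb), smul_inv_smul]
    have hg₀ν : g₀ • π w = π w := by
      rw [hg₀, mul_smul, mul_smul, Blk.fix_CC j.mem hh hwC, s.cen f hf _ hwC, hgv, Blk.fix_CC j.mem hOJ hwC]
    set t' := g₀ * tt * g₀⁻¹ with ht'
    have ht'b : ∀ b ∈ BJ M J, t' • b = (j₀ * y * j₀⁻¹) • b := by
      intro b hb
      have h1 : j₀⁻¹ • b ∈ BJ M J := smul_mem_BJ (inv_mem hj₀) hb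
      rw [ht', mul_smul, mul_smul, hg₀b' b hb, hyt _ h1, hg₀b _ (smul_mem_BJ hy h1)]
      simp only [mul_smul]
    have ht'ν : t' • π w = π w := by
      have h1 : g₀⁻¹ • π w = π w := by rw [inv_smul_eq_iff, hg₀ν]
      rw [ht', mul_smul, mul_smul, h1, htν, hg₀ν]
    have hy₁ : j₀ * y * j₀⁻¹ ∈ J := mul_mem (mul_mem hj₀ hy) (inv_mem hj₀)
    obtain ⟨y₂, hy₂, hy₂w⟩ := gen_comm s j hww hwC hy₁
    set k := y₂⁻¹ * t' with hk
    have hkb : ∀ b ∈ BJ M J, k • b = b := by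
      intro b hb
      rw [hk, mul_smul, ht'b b hb, hy₂, inv_smul_smul]
    have hkν : k • π w = π w := by
      rw [hk, mul_smul, ht'ν, inv_smul_eq_iff, ← hy₂, Blk.fix_CC j.mem hy₁ hwC]
    have hkx : k • π x = π x := by
      rw [hπx, hle, smul_add h, smul_add, hkb _ (smul_mem_BJ hh he), Blk.fix_CC j.mem hh hwC, hkν]
    have hkx' : k • π x' = π x' := by
      rw [hπx', smul_add, ← hπx, hkx, hkb c hcB]
    have ht'w : (t' : G) * w * (t' : G)⁻¹ = p * w := by
      have h1 := ht'ν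
      rw [← s.md.smul t' w hww] at h1
      refine ((s.md.eq_iff s.fr s.hp (conj_mem_ws_of_mem t'.2 hww) hww).1 h1).resolve_left fun e => ?_
      exact htw (NO3S.Dual.comm_of_conj_eq e)
    have hkw : (k : G) * w * (k : G)⁻¹ = p * w := by
      have h1 : (y₂ : G) * p = p * y₂ := mem_centralizer_singleton_iff.1 y₂.2
      change (y₂ : G)⁻¹ * t' * w * ((y₂ : G)⁻¹ * t')⁻¹ = p * w
      calc (y₂ : G)⁻¹ * t' * w * ((y₂ : G)⁻¹ * t')⁻¹ = (y₂ : G)⁻¹ * (t' * w * (t' : G)⁻¹) * y₂ := by group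
        _ = (y₂ : G)⁻¹ * (p * (w * y₂)) := by rw [ht'w]; group
        _ = (y₂ : G)⁻¹ * ((p * y₂) * w) := by rw [← hy₂w]; group
        _ = p * w := by rw [← h1]; group
    refine inf_le_of_kill s.fr s.md s.nn_le hxc hxc' hw ?_ ?_ ?_ k.2 ?_ ?_ hkw ?_ ?_ ?_
    · rw [hπx, s.blk.smul_CC_iff]
      exact hlamC
    · rw [hπx'', s.blk.smul_CC_iff]
      exact hlamC
    · rw [hπx, hπx', ← add_assoc, two, zero_add]
      exact hcC
    · rw [s.md.smul k x hxw, hkx]
    · rw [s.md.smul k x' hxw', hkx']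
    · rw [← hgx, hsx']
      exact s.col_h _
    · rw [← hgx, hsx']
      exact s.ne_h _
    · rintro u ⟨hu, hu'⟩
      have h1 := conj_mem_ws (g : G) hu'
      rw [hgx] at h1
      have h2 := mem_centralizer_iff.1 hg u hu
      rwa [← h2, mul_inv_cancel_right] at h1

end SecJ₀

namespace SecJ

variable {T V : Subgroup G} {z : G} {m : ℕ} {p q p₁ : G} [DistribMulAction (centralizer ({p} : Set G)) M]
  {π : G → M} {JJ : Set (Subgroup (centralizer ({p} : Set G)))} {J : Subgroup (centralizer ({p} : Set G))}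

/-- **(D) for special `x`**, (b4) and the type for all `h ∈ J` -/
theorem main [Finite G] (s : Sec T V z m p q p₁ π JJ) (j : SecJ V p q p₁ π JJ J)
    {h f : centralizer ({p} : Set G)} (hh : h ∈ J) (hf : (f : G) ∈ ws V q) (hc : cc h f (π p₁) ≠ 0)
    (hty : TyF V p q p₁ π JJ J ∨ TyS M J) :
    ws V (h * p₁ * (h : G)⁻¹) ⊓ ws V (f * (h * p₁ * (h : G)⁻¹) * (f : G)⁻¹) ≤ ws V p ∨
      (¬ TyF V p q p₁ π JJ J ∧ TyS M J ∧ π p₁ ∈ BJ M J ∧
        ∃ g : centralizer ({p} : Set G), cc h f (π p₁) = g • π p₁) := by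
  rcases SecJ₀.main s j.toSecJ₀ hh hf hc (j.b4 h hh) (hty.imp (fun hF => hF h hh) id) with h1 | ⟨h1, h2, h3⟩
  · exact Or.inl h1
  · exact Or.inr ⟨fun hF => h1 (hF h hh), h2, h3⟩

end SecJ

end Cfsg.Agent.Omega.NOThree.TF
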