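import Cfsg.Agent.Omega.NOThree.TF.Blk

/-!
# TwoFar, text #16267, (6.5): `|U_λ| = 4`

`λ = n₁ + n₂`, `nᵢ ∈ BJ Jᵢ`, `J₁ ≠ J₂`, `U = U_λ` with `U ∩ CC = 0`, (F2') and `Stab(λ)`-invariant.

* `Six.comp` : `0 ≠ u ∈ U ∩ (BJ K + CC)` is `n₁` or `n₂`;
* `Six.decomp` : `U ≤ BJ J₁ + BJ J₂ + CC`;
* `Six.cases` : `U = {0, n₁, n₂, λ}`, from (b6);
* `Six.card_le` : `|BJ J₁| ≤ |M : U|`.
-/

set_option autoImplicit false
set_option linter.unusedSectionVars false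

namespace Cfsg.Agent.Omega.NOThree.TF

open Subgroup Cfsg.Agent.MinSimple.Geo

universe u v

variable {H : Type u} [Group H] {M : Type v} [AddCommGroup M] [DistribMulAction H M]

/-- `λ = n₁ + n₂`, `U = U_λ` -/
structure Six (JJ : Set (Subgroup H)) (U : AddSubgroup M) (lam : M) (J₁ J₂ : Subgroup H) (n₁ n₂ : M) :
    Prop where
  blk : Blk M JJ
  two : ∀ m : M, m + m = 0
  mem₁ : J₁ ∈ JJ
  mem₂ : J₂ ∈ JJ
  ne : J₁ ≠ J₂
  hn₁ : n₁ ∈ BJ M J₁
  hn₂ : n₂ ∈ BJ M J₂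
  hlam : lam = n₁ + n₂
  n₁U : n₁ ∈ U
  n₂U : n₂ ∈ U
  n₁C : n₁ ∉ CC M JJ
  n₂C : n₂ ∉ CC M JJ
  /-- `Stab(λ)` normalises `U` -/
  stab : ∀ g : H, g • lam = lam → ∀ u ∈ U, g • u ∈ U
  /-- (F2') -/
  mv : ∀ u ∈ U, u ≠ 0 → u ≠ lam → ∃ k : H, k • lam = lam ∧ k • u = u + lam
  /-- (6.1) -/
  inf : ∀ u ∈ U, u ∈ CC M JJ → u = 0

/-- (b6), with the case `|BJ J / CC| = 4` -/
def BSix (JJ : Set (Subgroup H)) (U : AddSubgroup M) (lam : M) (J : Subgroup H) (n : M) : Prop :=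
  ∀ b ∈ BJ M J, (∀ g ∈ J, g • lam = lam → g • b - b = 0 ∨ g • b - b = n) →
    (∀ g ∈ J, (∀ u ∈ U, g • u = u) → g • b = b) → b ∈ CC M JJ ∨ b - n ∈ CC M JJ

namespace Six

variable {JJ : Set (Subgroup H)} {U : AddSubgroup M} {lam : M} {J₁ J₂ : Subgroup H} {n₁ n₂ : M}

theorem sub_eq (two : ∀ m : M, m + m = 0) (a b : M) : a - b = a + b := by
  rw [sub_eq_iff_eq_add, add_assoc, two, add_zero]

theorem symm (s : Six JJ U lam J₁ J₂ n₁ n₂) : Six JJ U lam J₂ J₁ n₂ n₁ :=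
  ⟨s.blk, s.two, s.mem₂, s.mem₁, s.ne.symm, s.hn₂, s.hn₁, by rw [s.hlam, add_comm], s.n₂U, s.n₁U, s.n₂C, s.n₁C,
    s.stab, s.mv, s.inf⟩

variable (s : Six JJ U lam J₁ J₂ n₁ n₂)
include s

/-- `J₁` moves `λ` -/
theorem moves {m : M} (hm : ∀ g ∈ J₁, g • m = m) : m ≠ lam := by
  rintro rfl
  apply s.n₁C
  refine s.blk.fixed s.mem₁ s.hn₁ fun g hg => ?_
  have h1 := hm g hg
  rw [s.hlam, smul_add, s.blk.comm J₂ s.mem₂ J₁ s.mem₁ s.ne.symm n₂ s.hn₂ g hg] at h1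
  exact add_right_cancel h1

/-- `λ` does not lie in `BJ K + CC` -/
theorem lam_not_mem {K : Subgroup H} (hK : K ∈ JJ) : lam ∉ BJ M K ⊔ CC M JJ := by
  intro hl
  by_cases h1 : K = J₁
  · refine s.symm.moves (m := lam) (fun g hg => ?_) rfl
    exact s.blk.fix_of_ne hK s.mem₂ (h1 ▸ s.ne) hl hg
  · exact s.moves (m := lam) (fun g hg => s.blk.fix_of_ne hK s.mem₁ h1 hl hg) rfl

/-- **(6.2)** for all blocks -/
theorem comp {K : Subgroup H} (hK : K ∈ JJ) {u : M} (hu : u ∈ U) (huK : u ∈ BJ M K ⊔ CC M JJ) (hu0 : u ≠ 0) :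
    (K = J₁ ∧ u = n₁) ∨ (K = J₂ ∧ u = n₂) := by
  have hul : u ≠ lam := by
    rintro rfl
    exact s.lam_not_mem hK huK
  obtain ⟨k, hkl, hku⟩ := s.mv u hu hu0 hul
  have hK' := s.blk.conj K hK k
  have huK' := s.blk.conj_smul_mem_sup k huK
  have hsum : lam = u + k • u := by rw [hku, ← add_assoc, s.two, zero_add]
  have key : ∀ {J₁ J₂ : Subgroup H} {n₁ n₂ : M}, Six JJ U lam J₁ J₂ n₁ n₂ → J₁ = K ∨ J₁ = cj k K := by
    intro J₁ J₂ n₁ n₂ s
    by_contra hcon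
    push Not at hcon
    refine s.moves (m := lam) (fun g hg => ?_) rfl
    rw [hsum, smul_add, s.blk.fix_of_ne hK s.mem₁ hcon.1.symm huK hg,
      s.blk.fix_of_ne hK' s.mem₁ hcon.2.symm huK' hg]
  have fin : ∀ {J₁ J₂ : Subgroup H} {n₁ n₂ : M}, Six JJ U lam J₁ J₂ n₁ n₂ → J₁ = K → u = n₁ := by
    intro J₁ J₂ n₁ n₂ s h1
    have h2 : J₂ = cj k K := (key s.symm).resolve_left fun h2 => s.ne (h1.trans h2.symm)
    have h3 : u + n₁ = n₂ + k • u := by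
      have h4 : u + k • u = n₁ + n₂ := by rw [← hsum, s.hlam]
      calc u + n₁ = u + k • u + k • u + n₁ := by rw [add_assoc u, s.two, add_zero]
        _ = n₁ + n₂ + k • u + n₁ := by rw [h4]
        _ = n₂ + k • u + (n₁ + n₁) := by abel
        _ = n₂ + k • u := by rw [s.two, add_zero]
    have h5 : u + n₁ ∈ CC M JJ := by
      refine s.blk.inter s.mem₁ s.mem₂ s.ne ?_ ?_
      · rw [h1]
        exact add_mem huK (h1 ▸ (le_sup_left : BJ M J₁ ≤ BJ M J₁ ⊔ CC M JJ) s.hn₁)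
      · rw [h3, h2]
        exact add_mem (h2 ▸ (le_sup_left : BJ M J₂ ≤ BJ M J₂ ⊔ CC M JJ) s.hn₂) huK'
    have h6 := s.inf _ (add_mem hu s.n₁U) h5
    rwa [← sub_eq s.two, sub_eq_zero] at h6
  rcases key s with h1 | h1
  · exact Or.inl ⟨h1.symm, fin s h1⟩
  · have h2 : J₂ = K := (key s.symm).resolve_right fun h2 => s.ne (h1.trans h2.symm)
    exact Or.inr ⟨h2.symm, fin s.symm h2⟩

/-- the blocks `≠ J₁, J₂` fix `U` -/
theorem fix {K : Subgroup H} (hK : K ∈ JJ) (h1 : K ≠ J₁) (h2 : K ≠ J₂) {u : M} (hu : u ∈ U) {g : H}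
    (hg : g ∈ K) : g • u = u := by
  have hgl : g • lam = lam := by
    rw [s.hlam, smul_add, s.blk.comm J₁ s.mem₁ K hK h1.symm _ s.hn₁ g hg,
      s.blk.comm J₂ s.mem₂ K hK h2.symm _ s.hn₂ g hg]
  by_contra hne
  have h3 : g • u - u ∈ U := sub_mem (s.stab g hgl u hu) hu
  have h4 : g • u - u ≠ 0 := fun e => hne (sub_eq_zero.1 e)
  rcases s.comp hK h3 ((le_sup_left : BJ M K ≤ BJ M K ⊔ CC M JJ) (sub_mem_BJ hg u)) h4 with h5 | h5
  · exact h1 h5.1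
  · exact h2 h5.1

/-- `U ≤ BJ J₁ + BJ J₂ + CC` -/
theorem decomp {u : M} (hu : u ∈ U) : ∃ b₁ ∈ BJ M J₁, ∃ b₂ ∈ BJ M J₂, ∃ c ∈ CC M JJ, u = b₁ + b₂ + c := by
  let F : AddSubgroup M :=
    { carrier := {m | (∀ g ∈ J₁, g • m = m) ∧ ∀ g ∈ J₂, g • m = m}
      add_mem' := by
        rintro a b ⟨ha, ha'⟩ ⟨hb, hb'⟩
        exact ⟨fun g hg => by rw [smul_add, ha g hg, hb g hg], fun g hg => by rw [smul_add, ha' g hg, hb' g hg]⟩
      zero_mem' := ⟨fun g _ => smul_zero g, fun g _ => smul_zero g⟩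
      neg_mem' := by
        rintro a ⟨ha, ha'⟩
        exact ⟨fun g hg => by rw [smul_neg, ha g hg], fun g hg => by rw [smul_neg, ha' g hg]⟩ }
  have h1 : u ∈ BJ M J₁ ⊔ BJ M J₂ ⊔ F := by
    refine s.blk.ind (fun K hK => ?_) ?_ u
    · by_cases h1 : K = J₁
      · rw [h1]; exact le_sup_of_le_left le_sup_left
      · by_cases h2 : K = J₂
        · rw [h2]; exact le_sup_of_le_left le_sup_right
        · refine le_trans ?_ (le_sup_right : F ≤ _)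
          intro b hb
          exact ⟨fun g hg => s.blk.comm K hK J₁ s.mem₁ h1 b hb g hg,
            fun g hg => s.blk.comm K hK J₂ s.mem₂ h2 b hb g hg⟩
    · refine le_trans ?_ (le_sup_right : F ≤ _)
      exact fun c hc => ⟨fun g hg => hc J₁ s.mem₁ g hg, fun g hg => hc J₂ s.mem₂ g hg⟩
  obtain ⟨b, hb, c, hc, rfl⟩ := AddSubgroup.mem_sup.1 h1
  obtain ⟨b₁, hb₁, b₂, hb₂, rfl⟩ := AddSubgroup.mem_sup.1 hb
  refine ⟨b₁, hb₁, b₂, hb₂, c, fun K hK g hg => ?_, rfl⟩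
  by_cases h1 : K = J₁
  · exact hc.1 g (h1 ▸ hg)
  by_cases h2 : K = J₂
  · exact hc.2 g (h2 ▸ hg)
  have h3 := s.fix hK h1 h2 hu hg
  rw [smul_add, smul_add, s.blk.comm J₁ s.mem₁ K hK (Ne.symm h1) _ hb₁ g hg,
    s.blk.comm J₂ s.mem₂ K hK (Ne.symm h2) _ hb₂ g hg] at h3
  exact add_left_cancel h3

/-- the `J₁`-component of `u ∈ U` -/
theorem comp₁ (h6 : BSix JJ U lam J₁ n₁) {u b₁ b₂ c : M} (hu : u ∈ U) (hb₁ : b₁ ∈ BJ M J₁) (hb₂ : b₂ ∈ BJ M J₂)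
    (hc : c ∈ CC M JJ) (e : u = b₁ + b₂ + c) : b₁ ∈ CC M JJ ∨ b₁ - n₁ ∈ CC M JJ := by
  have key : ∀ g ∈ J₁, g • u - u = g • b₁ - b₁ := by
    intro g hg
    rw [e, smul_add, smul_add, s.blk.comm J₂ s.mem₂ J₁ s.mem₁ s.ne.symm _ hb₂ g hg, hc J₁ s.mem₁ g hg]
    abel
  refine h6 b₁ hb₁ (fun g hg hgl => ?_) fun g hg hgU => ?_
  · by_cases h0 : g • b₁ - b₁ = 0
    · exact Or.inl h0
    · right
      have h1 : g • b₁ - b₁ ∈ U := by
        rw [← key g hg]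
        exact sub_mem (s.stab g hgl u hu) hu
      rcases s.comp s.mem₁ h1 ((le_sup_left : BJ M J₁ ≤ BJ M J₁ ⊔ CC M JJ) (sub_mem_BJ hg b₁)) h0 with h2 | h2
      · exact h2.2
      · exact absurd h2.1 s.ne
  · have h1 := key g hg
    rw [hgU u hu, sub_self] at h1
    exact (sub_eq_zero.1 h1.symm)

/-- **(6.5)** `U = {0, n₁, n₂, λ}` -/
theorem cases (h6 : BSix JJ U lam J₁ n₁) (h6' : BSix JJ U lam J₂ n₂) {u : M} (hu : u ∈ U) :
    u = 0 ∨ u = n₁ ∨ u = n₂ ∨ u = lam := by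
  obtain ⟨b₁, hb₁, b₂, hb₂, c, hc, e⟩ := s.decomp hu
  have h1 := s.comp₁ h6 hu hb₁ hb₂ hc e
  have h2 := s.symm.comp₁ h6' hu hb₂ hb₁ hc (by rw [e, add_comm b₁ b₂])
  rcases h1 with h1 | h1 <;> rcases h2 with h2 | h2
  · left
    exact s.inf u hu (by rw [e]; exact add_mem (add_mem h1 h2) hc)
  · right; right; left
    have h3 := s.inf (u - n₂) (sub_mem hu s.n₂U) (by
      rw [e, show b₁ + b₂ + c - n₂ = b₁ + (b₂ - n₂) + c by abel]
      exact add_mem (add_mem h1 h2) hc)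
    exact sub_eq_zero.1 h3
  · right; left
    have h3 := s.inf (u - n₁) (sub_mem hu s.n₁U) (by
      rw [e, show b₁ + b₂ + c - n₁ = (b₁ - n₁) + b₂ + c by abel]
      exact add_mem (add_mem h1 h2) hc)
    exact sub_eq_zero.1 h3
  · right; right; right
    have h3 := s.inf (u - lam) (sub_mem hu (s.hlam ▸ add_mem s.n₁U s.n₂U)) (by
      rw [e, s.hlam, show b₁ + b₂ + c - (n₁ + n₂) = (b₁ - n₁) + (b₂ - n₂) + c by abel]
      exact add_mem (add_mem h1 h2) hc)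
    exact sub_eq_zero.1 h3

theorem card_U (h6 : BSix JJ U lam J₁ n₁) (h6' : BSix JJ U lam J₂ n₂) : Nat.card U ≤ 4 := by
  classical
  have h1 : (U : Set M) ⊆ (({0, n₁, n₂, lam} : Finset M) : Set M) := by
    intro u hu
    rcases s.cases h6 h6' hu with e | e | e | e <;> simp [e]
  calc Nat.card U = (U : Set M).ncard := rfl
    _ ≤ ((({0, n₁, n₂, lam} : Finset M) : Set M)).ncard := Set.ncard_le_ncard h1 (Finset.finite_toSet _)
    _ = ({0, n₁, n₂, lam} : Finset M).card := Set.ncard_coe_finset _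
    _ ≤ 4 := Finset.card_le_four

/-- `4 |BJ J₁| ≤ |M|` -/
theorem card_BJ [Finite M] : 4 * Nat.card (BJ M J₁) ≤ Nat.card M := by
  classical
  -- `b`, `g b` in `BJ J₂`
  obtain ⟨g, hg, hgC⟩ : ∃ g ∈ J₂, g • n₂ - n₂ ∉ CC M JJ := by
    by_contra hcon
    push Not at hcon
    exact s.n₂C (s.blk.mem_CC s.mem₂ s.hn₂ hcon)
  set D : AddSubgroup M := BJ M J₁ ⊔ CC M JJ with hD
  have key : ∀ b ∈ BJ M J₂, b ∉ CC M JJ → b ∉ D := fun b hb hbC hbD =>
    hbC (s.blk.inter s.mem₁ s.mem₂ s.ne hbD ((le_sup_left : BJ M J₂ ≤ BJ M J₂ ⊔ CC M JJ) hb))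
  have h1 : n₂ ∉ D := key n₂ s.hn₂ s.n₂C
  have h2 : g • n₂ ∉ D := key _ (smul_mem_BJ hg s.hn₂) fun h => s.n₂C ((s.blk.smul_CC_iff g).1 h)
  have h3 : g • n₂ + n₂ ∉ D := by
    rw [← sub_eq s.two]
    exact key _ (sub_mem (smul_mem_BJ hg s.hn₂) s.hn₂) hgC
  have e1 : ∀ m : M, (QuotientAddGroup.mk m : M ⧸ D) = 0 ↔ m ∈ D := fun m => QuotientAddGroup.eq_zero_iff m
  have two' : ∀ x : M ⧸ D, x + x = 0 := by
    intro x
    obtain ⟨m, rfl⟩ := QuotientAddGroup.mk_surjective x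
    change (QuotientAddGroup.mk (m + m) : M ⧸ D) = 0
    rw [s.two]; rfl
  set x : M ⧸ D := QuotientAddGroup.mk n₂ with hx
  set y : M ⧸ D := QuotientAddGroup.mk (g • n₂) with hy
  have hx0 : x ≠ 0 := fun h => h1 ((e1 _).1 h)
  have hy0 : y ≠ 0 := fun h => h2 ((e1 _).1 h)
  have hxy0 : y + x ≠ 0 := fun h => h3 ((e1 _).1 h)
  have hxy : x ≠ y := fun h => hxy0 (by rw [h]; exact two' y)
  have hcard : ({0, x, y, y + x} : Finset (M ⧸ D)).card = 4 := by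
    rw [Finset.card_insert_of_notMem, Finset.card_insert_of_notMem, Finset.card_insert_of_notMem,
      Finset.card_singleton]
    · simpa using hx0
    · simp only [Finset.mem_insert, Finset.mem_singleton, not_or]
      exact ⟨hxy, fun h => hy0 (by simpa using h)⟩
    · simp only [Finset.mem_insert, Finset.mem_singleton, not_or]
      exact ⟨hx0.symm, hy0.symm, hxy0.symm⟩
  have h4 : 4 ≤ Nat.card (M ⧸ D) := by
    rw [← hcard, ← Set.ncard_coe_finset, ← Set.ncard_univ]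
    exact Set.ncard_le_ncard (Set.subset_univ _) Set.finite_univ
  have h5 : Nat.card (BJ M J₁) ≤ Nat.card D := by
    have h6 : (BJ M J₁ : Set M) ⊆ D := fun b hb => (le_sup_left : BJ M J₁ ≤ D) hb
    exact Nat.card_le_card_of_injective (Set.inclusion h6) (Set.inclusion_injective _)
  calc 4 * Nat.card (BJ M J₁) ≤ Nat.card (M ⧸ D) * Nat.card D := Nat.mul_le_mul h4 h5
    _ = Nat.card M := (AddSubgroup.card_eq_card_quotient_mul_card_addSubgroup D).symm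

/-- **(6.5)**: `|BJ J₁| ≤ |M : U|` -/
theorem card_le [Finite M] (h6 : BSix JJ U lam J₁ n₁) (h6' : BSix JJ U lam J₂ n₂) :
    Nat.card (BJ M J₁) ≤ U.index := by
  have h1 := s.card_BJ
  have h2 := s.card_U h6 h6'
  have h3 := U.card_mul_index
  have h4 : 4 * Nat.card (BJ M J₁) ≤ 4 * U.index := by
    rw [← h3] at h1
    exact h1.trans (Nat.mul_le_mul_right _ h2)
  omega

end Six

/-! ### `BSix` -/

/-- `BSix` from (b6) -/
theorem BSix.of_b6 {JJ : Set (Subgroup H)} {U : AddSubgroup M} {lam n : M} {J : Subgroup H}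
    (h : ∀ b ∈ BJ M J, (∀ g ∈ J, g • lam = lam → g • b - b ∈ CC M JJ ∨ g • b - b - n ∈ CC M JJ) →
      b ∈ CC M JJ ∨ b - n ∈ CC M JJ) : BSix JJ U lam J n := by
  intro b hb h1 _
  refine h b hb fun g hg hgl => ?_
  rcases h1 g hg hgl with e | e
  · left; rw [e]; exact zero_mem _
  · right; rw [e, sub_self]; exact zero_mem _

/-- `BSix` from `|BJ J : BJ J ∩ CC| ≤ 4` -/
theorem BSix.of_card {JJ : Set (Subgroup H)} {U : AddSubgroup M} {lam n : M} {J : Subgroup H}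
    (two : ∀ m : M, m + m = 0) (h4 : (CC M JJ).relIndex (BJ M J) ≤ 4) (h0 : (CC M JJ).relIndex (BJ M J) ≠ 0)
    (hn : n ∈ BJ M J) (hnC : n ∉ CC M JJ) {a : H} (ha : a ∈ J) (haU : ∀ u ∈ U, a • u = u) (hnU : n ∈ U)
    (hJJ : J ∈ JJ) {b₀ : M} (hb₀ : b₀ ∈ BJ M J) (hab₀ : a • b₀ ≠ b₀) : BSix JJ U lam J n := by
  classical
  intro b hb _ h2
  by_contra hcon
  push Not at hcon
  obtain ⟨hbC, hbn⟩ := hcon
  have hab := h2 a ha haU
  have han := haU n hnU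
  -- `0`, `n`, `b`, `b + n` represent all cosets
  apply hab₀
  set D : AddSubgroup (BJ M J) := (CC M JJ).addSubgroupOf (BJ M J) with hD
  have e1 : ∀ m : BJ M J, (QuotientAddGroup.mk m : BJ M J ⧸ D) = 0 ↔ (m : M) ∈ CC M JJ :=
    fun m => QuotientAddGroup.eq_zero_iff m
  have e2 : ∀ m m' : BJ M J, (QuotientAddGroup.mk m : BJ M J ⧸ D) = QuotientAddGroup.mk m' ↔
      (m' : M) - m ∈ CC M JJ := by
    intro m m'
    rw [QuotientAddGroup.eq, hD, AddSubgroup.mem_addSubgroupOf]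
    change -(m : M) + m' ∈ _ ↔ _
    rw [neg_add_eq_sub]
  set x : BJ M J ⧸ D := QuotientAddGroup.mk ⟨n, hn⟩ with hx
  set y : BJ M J ⧸ D := QuotientAddGroup.mk ⟨b, hb⟩ with hy
  set w : BJ M J ⧸ D := QuotientAddGroup.mk ⟨b + n, add_mem hb hn⟩ with hw
  have hx0 : x ≠ 0 := fun h => hnC ((e1 _).1 h)
  have hy0 : y ≠ 0 := fun h => hbC ((e1 _).1 h)
  have hbn' : b + n ∉ CC M JJ := by rwa [← Six.sub_eq two]
  have hw0 : w ≠ 0 := fun h => hbn' ((e1 _).1 h)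
  have hxy : x ≠ y := fun h => hbn ((e2 _ _).1 h)
  have hxw : x ≠ w := fun h => hbC (by
    have := (e2 _ _).1 h
    rwa [add_sub_cancel_right] at this)
  have hyw : y ≠ w := fun h => hnC (by
    have := (e2 _ _).1 h
    rwa [add_sub_cancel_left] at this)
  have hfin : Finite (BJ M J ⧸ D) := Nat.finite_of_card_ne_zero h0
  have hcard : ({0, x, y, w} : Finset (BJ M J ⧸ D)).card = 4 := by
    rw [Finset.card_insert_of_notMem, Finset.card_insert_of_notMem, Finset.card_insert_of_notMem,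
      Finset.card_singleton]
    · simpa using hyw
    · simp only [Finset.mem_insert, Finset.mem_singleton, not_or]
      exact ⟨hxy, hxw⟩
    · simp only [Finset.mem_insert, Finset.mem_singleton, not_or]
      exact ⟨hx0.symm, hy0.symm, hw0.symm⟩
  have hall : (({0, x, y, w} : Finset (BJ M J ⧸ D)) : Set (BJ M J ⧸ D)) = Set.univ := by
    refine Set.eq_of_subset_of_ncard_le (Set.subset_univ _) ?_ Set.finite_univ
    rw [Set.ncard_coe_finset, hcard, Set.ncard_univ]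
    exact h4
  have h5 : (QuotientAddGroup.mk ⟨b₀, hb₀⟩ : BJ M J ⧸ D) ∈ (({0, x, y, w} : Finset (BJ M J ⧸ D)) :
      Set (BJ M J ⧸ D)) := by rw [hall]; trivial
  simp only [Finset.coe_insert, Finset.coe_singleton, Set.mem_insert_iff, Set.mem_singleton_iff] at h5
  have fixC : ∀ c ∈ CC M JJ, a • c = c := fun c hc => hc J hJJ a ha
  have fin : ∀ m : M, a • m = m → m - b₀ ∈ CC M JJ → a • b₀ = b₀ := by
    intro m hm h6
    have h7 := fixC _ h6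
    rw [smul_sub, hm] at h7
    exact sub_right_injective h7
  rcases h5 with h5 | h5 | h5 | h5
  · exact fixC _ ((e1 _).1 h5)
  · exact fin n han ((e2 _ _).1 h5)
  · exact fin b hab ((e2 _ _).1 h5)
  · exact fin (b + n) (by rw [smul_add, hab, han]) ((e2 _ _).1 h5)

end Cfsg.Agent.Omega.NOThree.TF
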